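import Cfsg.Agent.Lib.Small.GL23Core.Setup
import Cfsg.Agent.Lib.Char.RationalSylowBound
import Cfsg.Agent.Lib.Char.PermLemma

/-!
# The core has order at most three

A faithful rational character of `G` whose values on the cosets of the core through the involution
are constant, with degree exceeding that value by eight.
-/

set_option autoImplicit false
set_option linter.style.haveILetI false
set_option linter.unusedSectionVars false
set_option linter.unusedDecidableInType false
set_option maxRecDepth 4000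
set_option maxHeartbeats 400000

namespace Cfsg.Lib.Small.GL23Core

open Subgroup Cfsg Cfsg.Lib.Char Cfsg.Lib.Small.CentralizerGL23
open scoped ComplexConjugate commutatorElement

universe u

noncomputable local instance (priority := high) fintypeSubgroupGL23Bound {A : Type u}
    [Group A] [Fintype A] (H : Subgroup A) : Fintype H := Fintype.ofFinite H

set_option synthInstance.maxHeartbeats 400000 in
set_option synthInstance.maxSize 2048 in
theorem four_eq_mul : ∀ a : GL23, cls (a : Mat) = 4 →
    ∃ x y : GL23, x * x * x = 1 ∧ y * y * y = 1 ∧ a = x * y := by decide +kernel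

theorem quat_comm : ∃ i j : GL23, cls (i : Mat) = 4 ∧ cls (j : Mat) = 4 ∧ ⁅i, j⁆ = -1 ∧ i * i = -1 := by
  refine ⟨⟨!![0, 2; 1, 0], !![0, 1; 2, 0], by decide +kernel, by decide +kernel⟩,
    ⟨!![1, 1; 1, 2], !![2, 2; 2, 1], by decide +kernel, by decide +kernel⟩, ?_⟩
  decide +kernel

/-- A degree two character is not zero at an involution that is a commutator. -/
theorem ne_zero_at_commutator {R : Type u} [Group R] {θ : R → ℂ} (hθ : IsCharacter R θ)
    (h2 : θ 1 = 2) {z a b : R} (hz : z = ⁅a, b⁆) (hzz : z * z = 1) : θ z ≠ 0 := by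
  obtain ⟨n, ρ, rfl⟩ := hθ
  have hn : n = 2 := by
    have : ((n : ℕ) : ℂ) = (2 : ℕ) := by rw [← show ρ.character 1 = (n : ℂ) by simp, h2]; norm_num
    exact_mod_cast this
  subst hn
  intro h0
  have hdet : LinearMap.det (ρ z) = 1 := by
    rw [hz, commutatorElement_def, map_mul, map_mul, map_mul, map_mul, map_mul, map_mul]
    have e : ∀ c, LinearMap.det (ρ c) * LinearMap.det (ρ c⁻¹) = 1 := fun c => by
      rw [← map_mul, ← map_mul, mul_inv_cancel, map_one, map_one]
    linear_combination (LinearMap.det (ρ b) * LinearMap.det (ρ b⁻¹)) * e a + e b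
  have hsq : ρ z * ρ z = 1 := by rw [← map_mul, hzz, map_one]
  set M := LinearMap.toMatrix' (ρ z) with hM
  have hMd : M.det = 1 := by rw [hM, LinearMap.det_toMatrix']; exact hdet
  have hMt : M.trace = 0 := by
    rw [← h0]
    show _ = LinearMap.trace ℂ _ (ρ z)
    rw [LinearMap.trace_eq_matrix_trace ℂ (Pi.basisFun ℂ (Fin 2)), LinearMap.toMatrix_eq_toMatrix']
  have hMM : M * M = 1 := by
    rw [hM, ← LinearMap.toMatrix'_comp]
    show LinearMap.toMatrix' (ρ z * ρ z) = 1
    rw [hsq]
    exact LinearMap.toMatrix'_id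
  have e := congrFun (congrFun hMM 0) 0
  simp only [Matrix.mul_apply, Fin.sum_univ_two, Matrix.one_apply_eq] at e
  rw [Matrix.det_fin_two] at hMd
  rw [Matrix.trace_fin_two] at hMt
  exact absurd (show (2 : ℂ) = 0 by linear_combination (-1 : ℂ) * e - hMd + M 0 0 * hMt) two_ne_zero

variable {G : Type u} [Group G] [Fintype G] {t : G} {π : Cen t →* GL23}

namespace Hyp

variable (h : Hyp t π)
include h

set_option maxHeartbeats 2000000 in
theorem core_bound {χ : G → ℂ} (hχ : IsCharacter G χ)
    (hrat : ∀ k : ℕ, k.Coprime (Nat.card G) → ∀ x, χ (x ^ k) = χ x)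
    (hneg : ∀ x : Cen t, π x = -1 → χ (x : G) = χ t) (hfaith : ∀ g, χ g = χ 1 → g = 1)
    {T : ℕ} (hT : χ t = T) (hD : χ 1 = ((T + 8 : ℕ) : ℂ)) :
    Nat.card π.ker ≤ 3 ∧
      (Nat.card π.ker = 3 → ∀ o : Cen t, π o = 1 → o ≠ 1 → χ (o : G) = (T : ℂ) - 4) := by
  classical
  set m := Nat.card π.ker with hm
  set O := π.ker with hO
  -- the character of the core on the negative eigenspace
  let K := O × Multiplicative (ZMod 2)
  let tp : Multiplicative (ZMod 2) →* Cen t :=
    ⟨⟨fun j => tc t ^ j.toAdd.val, by simp⟩, fun a b => by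
      show tc t ^ (a.toAdd + b.toAdd).val = tc t ^ a.toAdd.val * tc t ^ b.toAdd.val
      rw [← pow_add, ZMod.val_add, ← pow_eq_pow_mod _ (by rw [sq, h.tc_sq])]⟩
  let f : O × Multiplicative (ZMod 2) →* Cen t := O.subtype.noncommCoprod tp fun o j =>
    ((show Commute (o : Cen t) (tc t) from tc_comm _).pow_right _)
  let sg : Multiplicative (ZMod 2) →* ℂˣ :=
    ⟨⟨fun j => (-1 : ℂˣ) ^ j.toAdd.val, by simp⟩, fun a b => by
      show (-1 : ℂˣ) ^ (a.toAdd + b.toAdd).val = (-1 : ℂˣ) ^ a.toAdd.val * (-1 : ℂˣ) ^ b.toAdd.val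
      rw [← pow_add, ZMod.val_add, ← pow_eq_pow_mod _ (by simp)]⟩
  let F : O × Multiplicative (ZMod 2) → ℂ := fun p =>
    χ ((f p : Cen t) : G) * ((sg.comp (MonoidHom.snd O _) p : ℂˣ) : ℂ)
  have hF : IsCharacter (O × Multiplicative (ZMod 2)) F :=
    (hχ.comp ((centralizer ({t} : Set G)).subtype.comp f)).mul
      (isIrrCharacter_linear (sg.comp (MonoidHom.snd O _))).isCharacter
  have hf : ∀ (o : O) (j : Multiplicative (ZMod 2)), f (o, j) = (o : Cen t) * tc t ^ j.toAdd.val := fun _ _ => rfl
  obtain ⟨ψ, hψ, hψe⟩ := Block.exists_coset_average hF (MonoidHom.fst O (Multiplicative (ZMod 2))).ker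
  let b : O → ℂ := fun o => (χ ((o : Cen t) : G) - T) / 2
  have hb : IsCharacter O b := by
    have key : b = fun o : O => ψ (((QuotientGroup.mk' (MonoidHom.fst O (Multiplicative (ZMod 2))).ker).comp
        (MonoidHom.inl O (Multiplicative (ZMod 2)))) o) := by
      funext o
      let e : Multiplicative (ZMod 2) ≃ (MonoidHom.fst O (Multiplicative (ZMod 2))).ker :=
        { toFun := fun j => ⟨(1, j), rfl⟩
          invFun := fun p => p.1.2
          left_inv := fun j => rfl
          right_inv := fun p => Subtype.ext (Prod.ext (p.2 : p.1.1 = 1).symm rfl) }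
      have hh := hψe (o, 1)
      rw [← Nat.card_congr e, Nat.card_eq_fintype_card, Fintype.card_multiplicative, ZMod.card,
        ← e.sum_comp, ← Multiplicative.ofAdd.sum_comp] at hh
      show (χ ((o : Cen t) : G) - T) / 2 = ψ ((o, 1) : O × Multiplicative (ZMod 2))
      rw [div_eq_iff two_ne_zero, mul_comm]
      rw [show ((2 : ℕ) : ℂ) = 2 by norm_num] at hh
      rw [hh]
      have h2 : ∀ g : ZMod 2 → ℂ, ∑ i, g i = g 0 + g 1 := fun g => Fin.sum_univ_two g
      rw [h2]
      have e0 : F ((1, Multiplicative.ofAdd 0) * (o, 1)) = χ ((o : Cen t) : G) := by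
        simp [F, hf, sg]
      have e1 : F ((1, Multiplicative.ofAdd 1) * (o, 1)) = -χ ((tc t * (o : Cen t) : Cen t) : G) := by
        simp [F, hf, sg, ZMod.val_one]
        exact congrArg χ (congrArg Subtype.val (tc_comm (o : Cen t)))
      show _ = F ((1, Multiplicative.ofAdd 0) * (o, 1)) + F ((1, Multiplicative.ofAdd 1) * (o, 1))
      rw [e0, e1, hneg (tc t * (o : Cen t)) (by rw [map_mul, h.pi_tc, π.mem_ker.mp o.2, mul_one]), hT]
      ring
    rw [key]
    exact hψ.comp _
  have hbχ : ∀ o : O, χ ((o : Cen t) : G) = T + 2 * b o := fun o => by simp [b]; ring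
  have hb1 : b 1 = (4 : ℕ) := by simp only [b, coe_one, hD]; push_cast; ring
  have hbfaith : ∀ o : O, b o = b 1 → o = 1 := fun o e => Subtype.ext (Subtype.ext (hfaith _ (by
    rw [hbχ o, e, hb1, hD]; push_cast; ring)))
  have hcardO : Odd (Nat.card O) := h.odd
  have hdvd : m ∣ Nat.card G := (dvd_mul_left m 48).trans (h.card_cen ▸ card_subgroup_dvd_card _)
  have hcop : ∀ {k : ℕ}, k.Coprime (Nat.card G) → k.Coprime (Nat.card O) := fun hk => hk.coprime_dvd_right hdvd
  -- the nontrivial constituents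
  set S : Finset (IrrCharacter O) := Finset.univ.filter fun η =>
    multIn hb η ≠ 0 ∧ (η : O → ℂ) ≠ fun _ => 1 with hS
  choose d hd0 hd using fun η : IrrCharacter O => η.2.exists_degree
  have hdsum : ∑ η, multIn hb η * d η = 4 := by
    have e := apply_eq_sum_multIn hb 1
    simp only [hb1, hd] at e
    exact_mod_cast e.symm
  have hmult : ∀ (η : IrrCharacter O) (k : ℕ) (hk : k.Coprime (Nat.card G)),
      multIn hb (irrPow (hcop hk) η) = multIn hb η := by
    intro η k hk
    have e := classInner_comp_pow (hcop hk) b (η : O → ℂ)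
    rw [show (fun g : O => b (g ^ k)) = b from funext fun g => by
      simp only [b, SubmonoidClass.coe_pow, hrat k hk], classInner_eq_multIn hb η] at e
    exact_mod_cast (classInner_eq_multIn hb (irrPow (hcop hk) η)).symm.trans e
  set kinv := Nat.card G - 1 with hkinv
  have hG2 : 2 ≤ Nat.card G := by
    have := Nat.le_of_dvd Nat.card_pos (h.card_cen ▸ card_subgroup_dvd_card (centralizer ({t} : Set G)))
    have : 0 < m := Nat.card_pos
    omega
  have hkc : kinv.Coprime (Nat.card G) :=
    (Nat.coprime_self_sub_left (by omega : 1 ≤ Nat.card G)).mpr (Nat.coprime_one_left _)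
  have hinv : ∀ g : O, g ^ kinv = g⁻¹ := fun g => by
    refine eq_inv_of_mul_eq_one_left (Subtype.ext (Subtype.ext ?_))
    simp only [SubmonoidClass.coe_pow, coe_mul, coe_one]
    rw [← pow_succ, show kinv + 1 = Nat.card G by omega, pow_card_eq_one']
  let bar : IrrCharacter O → IrrCharacter O := fun η => irrPow (hcop hkc) η
  have hbar : ∀ η g, (bar η : O → ℂ) g = (η : O → ℂ) g⁻¹ := fun η g => by
    rw [irrPow_apply, hinv]
  have hbarS : ∀ η ∈ S, bar η ∈ S ∧ bar η ≠ η := by
    intro η hη
    obtain ⟨-, h0, h1⟩ := Finset.mem_filter.mp hη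
    refine ⟨Finset.mem_filter.mpr ⟨Finset.mem_univ _, by rw [hmult η _ hkc]; exact h0, fun e => h1 (funext fun g => ?_)⟩,
      fun e => h1 (real_irr_eq_one hcardO η fun g => ?_)⟩
    · have := congrFun e g⁻¹
      rwa [hbar, inv_inv] at this
    · have := congrArg (fun ξ : IrrCharacter O => (ξ : O → ℂ) g) e
      simp only [hbar, η.2.isCharacter.apply_inv] at this
      exact Complex.conj_eq_iff_im.mp this
  have hlin : ∀ η ∈ S, d η = 1 := by
    intro η hη
    by_contra hne
    have h2 : d η ∣ Nat.card O := degree_dvd_card η.2 (hd η)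
    have h3 : 3 ≤ d η := by
      have := hd0 η
      have h4 : Odd (d η) := Odd.of_dvd_nat hcardO h2
      obtain ⟨c, hc⟩ := h4
      omega
    obtain ⟨hbS, hbne⟩ := hbarS η hη
    have h6 : multIn hb (bar η) * d (bar η) + multIn hb η * d η ≤ 4 := by
      rw [← hdsum, ← Finset.sum_pair (f := fun ξ => multIn hb ξ * d ξ) hbne]
      exact Finset.sum_le_univ_sum_of_nonneg fun _ => Nat.zero_le _
    have h7 : d (bar η) = d η := by
      have e := hd (bar η)
      rw [hbar, inv_one, hd η] at e
      exact_mod_cast e.symm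
    have a1 := Nat.pos_of_ne_zero (Finset.mem_filter.mp hη).2.1
    have a2 := Nat.pos_of_ne_zero (Finset.mem_filter.mp hbS).2.1
    rw [h7] at h6
    nlinarith [Nat.le_mul_of_pos_left (d η) a1, Nat.le_mul_of_pos_left (d η) a2]
  have hScard : ∑ η ∈ S, multIn hb η ≤ 4 := by
    rw [← hdsum]
    refine le_trans (le_of_eq (Finset.sum_congr rfl fun η hη => ?_))
      (Finset.sum_le_univ_sum_of_nonneg fun _ => Nat.zero_le _)
    rw [hlin η hη, mul_one]
  have hS4 : S.card ≤ 4 := le_trans (by
    rw [Finset.card_eq_sum_ones]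
    exact Finset.sum_le_sum fun η hη => Nat.pos_of_ne_zero (Finset.mem_filter.mp hη).2.1) hScard
  -- separation
  have hsep : ∀ o : O, (∀ η ∈ S, (η : O → ℂ) o = (η : O → ℂ) 1) → o = 1 := by
    intro o ho
    refine hbfaith o ?_
    rw [apply_eq_sum_multIn hb o, apply_eq_sum_multIn hb 1]
    refine Finset.sum_congr rfl fun η _ => ?_
    by_cases hη : η ∈ S
    · rw [ho η hη]
    · by_cases h0 : multIn hb η = 0
      · rw [h0]; simp
      · have h1 : (η : O → ℂ) = fun _ => 1 := by
          by_contra h1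
          exact hη (Finset.mem_filter.mpr ⟨Finset.mem_univ _, h0, h1⟩)
        rw [h1]
  have hhom : ∀ η ∈ S, ∃ l : O →* ℂˣ, ∀ g, (η : O → ℂ) g = (l g : ℂ) := fun η hη => by
    obtain ⟨l, hl⟩ := exists_hom_of_degree_one η.2.isCharacter (by rw [hd, hlin η hη, Nat.cast_one])
    exact ⟨l, fun g => congrFun hl g⟩
  -- elements of odd order centralize the core
  have hcent : ∀ c : Cen t, Odd (orderOf c) → ∀ o : O, c * (o : Cen t) * c⁻¹ = o := by
    intro c hc o
    let cj : O →* O := (MulAut.conjNormal (H := O) c).toMonoidHom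
    have hcj : ∀ g : O, ((cj g : O) : Cen t) = c * (g : Cen t) * c⁻¹ := fun g => MulAut.conjNormal_apply _ _
    let σ : IrrCharacter O → IrrCharacter O := fun η =>
      ⟨fun g => (η : O → ℂ) (cj g), η.2.comp_surjective cj (MulAut.conjNormal (H := O) c).surjective⟩
    have hσm : ∀ η, multIn hb (σ η) = multIn hb η := by
      intro η
      have e : classInner b (σ η : O → ℂ) = classInner b (η : O → ℂ) := by
        simp only [classInner]
        congr 1
        refine Fintype.sum_equiv (MulAut.conjNormal (H := O) c).toEquiv _ _ fun g => ?_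
        show b g * conj ((η : O → ℂ) (cj g)) = b (cj g) * conj ((η : O → ℂ) (cj g))
        simp only [b, hcj, coe_mul, coe_inv]
        rw [hχ.isClassFunction ((g : Cen t) : G) (c : G)]
      rw [classInner_eq_multIn hb, classInner_eq_multIn hb] at e
      exact_mod_cast e
    have hσS : ∀ η ∈ S, σ η ∈ S := by
      intro η hη
      obtain ⟨-, h0, h1⟩ := Finset.mem_filter.mp hη
      refine Finset.mem_filter.mpr ⟨Finset.mem_univ _, by rw [hσm]; exact h0, fun e => h1 (funext fun g => ?_)⟩
      obtain ⟨g', rfl⟩ : ∃ g', cj g' = g := (MulAut.conjNormal (H := O) c).surjective g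
      exact congrFun e g'
    have hσbar : ∀ η, σ (bar η) = bar (σ η) := fun η => Subtype.ext (funext fun g => by
      show (bar η : O → ℂ) (cj g) = (bar (σ η) : O → ℂ) g
      rw [hbar, hbar, ← map_inv])
    have hiter : ∀ (n : ℕ) η g, ((σ^[n] η : IrrCharacter O) : O → ℂ) g = (η : O → ℂ) (cj^[n] g) := by
      intro n
      induction n with
      | zero => intro η g; rfl
      | succ n ih =>
        intro η g
        rw [Function.iterate_succ_apply, ih, Function.iterate_succ_apply']
    have hcit : ∀ (n : ℕ) (g : O), ((cj^[n] g : O) : Cen t) = c ^ n * (g : Cen t) * (c ^ n)⁻¹ := by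
      intro n
      induction n with
      | zero => intro g; simp
      | succ n ih => intro g; rw [Function.iterate_succ_apply', hcj, ih, pow_succ']; group
    have hfix : ∀ η ∈ S, σ η = η := by
      intro η hη
      by_contra hne
      have hper : Function.IsPeriodicPt σ (orderOf c) η := Subtype.ext (funext fun g => by
        rw [hiter, show (cj^[orderOf c] g) = g from Subtype.ext (by
          rw [hcit, pow_orderOf_eq_one]; simp)])
      set p := Function.minimalPeriod σ η with hp
      have hp0 : 0 < p := Function.IsPeriodicPt.minimalPeriod_pos (orderOf_pos c) hper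
      have hpd : p ∣ orderOf c := hper.minimalPeriod_dvd
      have hpodd : Odd p := Odd.of_dvd_nat hc hpd
      have hp1 : p ≠ 1 := fun e => hne (Function.minimalPeriod_eq_one_iff_isFixedPt.mp e)
      have hp3 : 3 ≤ p := by obtain ⟨i, hi⟩ := hpodd; omega
      have hnb : ∀ i : ℕ, σ^[i] η ≠ bar η := by
        intro i e
        have hcomm : ∀ n ξ, σ^[n] (bar ξ) = bar (σ^[n] ξ) := fun n => by
          induction n with
          | zero => intro ξ; rfl
          | succ n ih => intro ξ; rw [Function.iterate_succ_apply, hσbar, ih, Function.iterate_succ_apply]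
        have e2 : σ^[i + i] η = η := by
          rw [Function.iterate_add_apply, e, hcomm, e]
          exact Subtype.ext (funext fun g => by rw [hbar, hbar, inv_inv])
        have h2 : p ∣ i + i := Function.IsPeriodicPt.minimalPeriod_dvd e2
        rw [← two_mul] at h2
        have h3 : p ∣ i := ((Nat.coprime_two_right.mpr hpodd)).dvd_of_dvd_mul_left h2
        rw [(Function.isPeriodicPt_iff_minimalPeriod_dvd.mpr h3 : σ^[i] η = η)] at e
        exact (hbarS η hη).2 e.symm
      have hiS : ∀ n, σ^[n] η ∈ S := fun n => by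
        induction n with
        | zero => exact hη
        | succ n ih => rw [Function.iterate_succ_apply']; exact hσS _ ih
      have hcomm : ∀ n ξ, σ^[n] (bar ξ) = bar (σ^[n] ξ) := fun n => by
        induction n with
        | zero => intro ξ; rfl
        | succ n ih => intro ξ; rw [Function.iterate_succ_apply, hσbar, ih, Function.iterate_succ_apply]
      let g : Fin 3 ⊕ Fin 3 → IrrCharacter O := Sum.elim (fun i => σ^[(i : ℕ)] η) (fun i => bar (σ^[(i : ℕ)] η))
      have hinj' : ∀ i j : Fin 3, σ^[(i : ℕ)] η = σ^[(j : ℕ)] η → i = j := fun i j e =>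
        Fin.ext (Function.iterate_injOn_Iio_minimalPeriod (f := σ) (x := η)
          (show (i : ℕ) ∈ Set.Iio p from lt_of_lt_of_le i.2 hp3)
          (show (j : ℕ) ∈ Set.Iio p from lt_of_lt_of_le j.2 hp3) e)
      have hcross : ∀ i j : Fin 3, σ^[(i : ℕ)] η ≠ bar (σ^[(j : ℕ)] η) := by
        intro i j e
        refine hnb (p - (j : ℕ) + i) ?_
        rw [Function.iterate_add_apply, e, hcomm, ← Function.iterate_add_apply,
          show p - (j : ℕ) + j = p by omega, Function.iterate_minimalPeriod]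
      have hg : Function.Injective g := by
        rintro (i | i) (j | j) e
        · exact congrArg Sum.inl (hinj' i j e)
        · exact absurd e (hcross i j)
        · exact absurd e.symm (hcross j i)
        · refine congrArg Sum.inr (hinj' i j (Subtype.ext (funext fun x => ?_)))
          have := congrArg (fun ξ : IrrCharacter O => (ξ : O → ℂ) x⁻¹) e
          simpa [g, hbar] using this
      have := Finset.card_le_card_of_injOn (s := (Finset.univ : Finset (Fin 3 ⊕ Fin 3))) g (fun a _ => by
        rcases a with i | i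
        · exact hiS _
        · exact (hbarS _ (hiS _)).1) hg.injOn
      simp at this
      omega
    have key : cj o * o⁻¹ = 1 := hsep _ fun η hη => by
      obtain ⟨l, hl⟩ := hhom η hη
      have e := congrArg (fun ξ : IrrCharacter O => (ξ : O → ℂ) o) (hfix η hη)
      change (η : O → ℂ) (cj o) = (η : O → ℂ) o at e
      rw [hl, hl] at e
      rw [hl, hl, map_mul, map_inv, map_one, Units.ext e, mul_inv_cancel]
    rw [← hcj, mul_inv_eq_one.mp key]
  -- a quaternion group centralizing the core
  set Z := centralizer (O : Set (Cen t)) with hZ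
  have hZodd : ∀ c : Cen t, Odd (orderOf c) → c ∈ Z := fun c hc => mem_centralizer_iff.mpr fun o ho =>
    ((mul_inv_eq_iff_eq_mul.mp (hcent c hc ⟨o, ho⟩))).symm
  have hZ3 : ∀ x : GL23, x * x * x = 1 → x ∈ Z.map π := by
    intro x hx
    obtain ⟨c, rfl⟩ := h.surj x
    refine ⟨c, hZodd c ?_, rfl⟩
    refine Odd.of_dvd_nat (Odd.mul (by decide : Odd 3) h.odd) (orderOf_dvd_of_pow_eq_one ?_)
    rw [pow_mul]
    exact orderOf_dvd_iff_pow_eq_one.mp (π.ker.orderOf_dvd_natCard (π.mem_ker.mpr (by
      rw [map_pow, pow_succ, sq, hx])))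
  have hquat : quat ≤ Z.map π := by
    intro a ha
    obtain ⟨i, j, hi, -, -, hii⟩ := quat_comm
    have h4 : ∀ a : GL23, cls (a : Mat) = 4 → a ∈ Z.map π := fun a ha => by
      obtain ⟨x, y, hx, hy, rfl⟩ := four_eq_mul a ha
      exact mul_mem (hZ3 x hx) (hZ3 y hy)
    rcases (ha : cls (a : Mat) = 0 ∨ cls (a : Mat) = 1 ∨ cls (a : Mat) = 4) with e | e | e
    · have := isConj_repU a; rw [e] at this
      rw [show a = 1 from (isConj_one_right.mp (show IsConj 1 a from this))]
      exact one_mem _
    · have := isConj_repU a; rw [e] at this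
      obtain ⟨c, hc⟩ := isConj_iff.mp this
      rw [show a = -1 by rw [← hc]; simp [repU], ← hii]
      exact mul_mem (h4 i hi) (h4 i hi)
    · exact h4 a e
  haveI : Fact (Nat.Prime 2) := ⟨Nat.prime_two⟩
  set W : Subgroup (Cen t) := Z ⊓ quat.comap π with hW
  let πW : W →* quat := (π.comp W.subtype).codRestrict quat fun x => x.2.2
  have hπW : Function.Surjective πW := fun a => by
    obtain ⟨z, hz, e⟩ := hquat a.2
    exact ⟨⟨z, hz, show π z ∈ quat from e ▸ a.2⟩, Subtype.ext e⟩
  obtain ⟨R⟩ : Nonempty (Sylow 2 W) := inferInstance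
  have hRq : (R.mapSurjective hπW : Subgroup quat) = ⊤ :=
    top_le_iff.mp (le_of_eq ((R.mapSurjective hπW).is_maximal'
      ((IsPGroup.of_card (n := 3) (by rw [card_quat]; rfl) : IsPGroup 2 quat).to_subgroup ⊤) le_top))
  have hlift : ∀ a ∈ quat, ∃ z : Cen t, ∃ hz : z ∈ W, (⟨z, hz⟩ : W) ∈ (R : Subgroup W) ∧ π z = a := by
    intro a ha
    obtain ⟨z, hz, e⟩ : (⟨a, ha⟩ : quat) ∈ (R.mapSurjective hπW : Subgroup quat) := hRq ▸ mem_top _
    exact ⟨z.1, z.2, hz, congrArg Subtype.val e⟩
  obtain ⟨i, j, hi, hj, hij, hii⟩ := quat_comm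
  obtain ⟨zi, hzi, hziR, hπi⟩ := hlift i (Or.inr (Or.inr hi))
  obtain ⟨zj, hzj, hzjR, hπj⟩ := hlift j (Or.inr (Or.inr hj))
  have hztc : ⁅zi, zj⁆ = tc t := by
    obtain ⟨n, hn⟩ := R.isPGroup' ⟨⁅(⟨zi, hzi⟩ : W), ⟨zj, hzj⟩⁆, by
      rw [commutatorElement_def]
      exact mul_mem (mul_mem (mul_mem hziR hzjR) (inv_mem hziR)) (inv_mem hzjR)⟩
    refine h.eq_tc_of_two_pow (j := n) (by rw [map_commutatorElement, hπi, hπj, hij]) ?_
    have e := congrArg (fun z : (R : Subgroup W) => ((z : W) : Cen t)) hn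
    simp only [SubmonoidClass.coe_pow, coe_one] at e
    rw [pow_succ, pow_mul, show (⁅zi, zj⁆ : Cen t) ^ 2 ^ n = 1 from by simpa [commutatorElement_def] using e,
      one_pow]
  set R' : Subgroup (Cen t) := (R : Subgroup W).map W.subtype with hR'
  have hRZ : ∀ z : R', ∀ o : O, Commute (z : Cen t) (o : Cen t) := by
    rintro ⟨z, w, hw, rfl⟩ o
    exact (mem_centralizer_iff.mp w.2.1 o o.2).symm
  -- every multiplicity is at least two
  have hm2 : ∀ η ∈ S, 2 ≤ multIn hb η := by
    intro η hη
    by_contra hlt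
    have hη1 : multIn hb η = 1 := by have := Nat.pos_of_ne_zero (Finset.mem_filter.mp hη).2.1; omega
    obtain ⟨l, hl⟩ := hhom η hη
    let f' : R' × O →* Cen t := R'.subtype.noncommCoprod O.subtype hRZ
    let F' : R' × O → ℂ := fun p => χ ((f' p : Cen t) : G) * (((l⁻¹).comp (MonoidHom.snd R' O) p : ℂˣ) : ℂ)
    have hF' : IsCharacter (R' × O) F' :=
      (hχ.comp ((centralizer ({t} : Set G)).subtype.comp f')).mul
        (isIrrCharacter_linear ((l⁻¹).comp (MonoidHom.snd R' O))).isCharacter
    obtain ⟨ψ', hψ', hψe'⟩ := Block.exists_coset_average hF' (MonoidHom.fst R' O).ker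
    let θ : R' → ℂ := fun z => ψ' (((QuotientGroup.mk' (MonoidHom.fst R' O).ker).comp (MonoidHom.inl R' O)) z)
    have hθ : IsCharacter R' θ := hψ'.comp _
    have hθe : ∀ z : R', (Nat.card O : ℂ) * θ z =
        ∑ o : O, χ (((z : Cen t) * (o : Cen t) : Cen t) : G) * conj ((η : O → ℂ) o) := by
      intro z
      let e : O ≃ (MonoidHom.fst R' O).ker :=
        { toFun := fun o => ⟨(1, o), rfl⟩
          invFun := fun p => p.1.2
          left_inv := fun o => rfl
          right_inv := fun p => Subtype.ext (Prod.ext (p.2 : p.1.1 = 1).symm rfl) }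
      have hh := hψe' (z, 1)
      rw [← Nat.card_congr e, ← e.sum_comp] at hh
      refine hh.trans (Finset.sum_congr rfl fun o _ => ?_)
      show F' ((1, o) * (z, 1)) = _
      rw [Prod.mk_mul_mk, one_mul, mul_one]
      show χ (((z : Cen t) * (o : Cen t) : Cen t) : G) * (((l o)⁻¹ : ℂˣ) : ℂ) = _
      congr 1
      rw [← η.2.isCharacter.apply_inv, hl, map_inv]
    have hO0 : (Nat.card O : ℂ) ≠ 0 := Nat.cast_ne_zero.mpr Nat.card_pos.ne'
    have hsum0 : ∑ o : O, conj ((η : O → ℂ) o) = 0 := by
      have e := classInner_irr_ne (isIrrCharacter_one (G := O)) η.2 fun e => (Finset.mem_filter.mp hη).2.2 e.symm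
      simpa [classInner, hO0] using e
    have hz1 : tc t ∈ R' := hztc ▸ ⟨⁅(⟨zi, hzi⟩ : W), ⟨zj, hzj⟩⁆, by
      rw [commutatorElement_def]
      exact mul_mem (mul_mem (mul_mem hziR hzjR) (inv_mem hziR)) (inv_mem hzjR), rfl⟩
    have hθ1 : θ 1 = 2 := by
      apply mul_left_cancel₀ hO0
      rw [hθe]
      simp only [coe_one, one_mul, hbχ, add_mul, Finset.sum_add_distrib, ← Finset.mul_sum, hsum0, mul_zero,
        zero_add, mul_assoc]
      have e := classInner_eq_multIn hb η
      rw [hη1, classInner, inv_mul_eq_iff_eq_mul₀ hO0, Nat.cast_one, mul_one] at e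
      rw [e]; ring
    refine ne_zero_at_commutator hθ hθ1 (z := ⟨tc t, hz1⟩) (a := ⟨zi, mem_map_of_mem W.subtype hziR⟩)
      (b := ⟨zj, mem_map_of_mem W.subtype hzjR⟩) (Subtype.ext ?_) (Subtype.ext h.tc_sq) ?_
    · exact hztc.symm
    · apply mul_left_cancel₀ hO0
      rw [hθe, mul_zero, Finset.sum_congr rfl fun o _ => by
        rw [hneg _ (by rw [map_mul, h.pi_tc, π.mem_ker.mp o.2, mul_one])], ← Finset.mul_sum, hsum0, mul_zero]
  have hS2 : S.card ≤ 2 := by
    have e : 2 * S.card ≤ ∑ η ∈ S, multIn hb η := by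
      rw [mul_comm, ← smul_eq_mul, ← Finset.sum_const]
      exact Finset.sum_le_sum hm2
    omega
  rcases S.eq_empty_or_nonempty with hS0 | ⟨η, hη⟩
  · have h1 : Nat.card O = 1 := (Nat.card_eq_one_iff_unique).mpr ⟨⟨fun a b => by
      rw [hsep a (by simp [hS0]), hsep b (by simp [hS0])]⟩, ⟨1⟩⟩
    exact ⟨by rw [hm, h1]; norm_num, fun e => absurd (e.symm.trans h1) (by norm_num)⟩
  obtain ⟨l, hl⟩ := hhom η hη
  obtain ⟨hbS, hbne⟩ := hbarS η hη
  have hpair : ∀ ξ ∈ S, ξ = η ∨ ξ = bar η := by
    intro ξ hξ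
    by_contra hne
    push Not at hne
    have := Finset.card_le_card (s := ({ξ, η, bar η} : Finset (IrrCharacter O))) (t := S) (by
      simp [Finset.insert_subset_iff, hξ, hη, hbS])
    rw [Finset.card_insert_of_notMem (by simp [hne.1, hne.2]), Finset.card_pair hbne.symm] at this
    omega
  have hinj : Function.Injective l := (injective_iff_map_eq_one l).mpr fun o ho => hsep o fun ξ hξ => by
    rcases hpair ξ hξ with rfl | rfl
    · rw [hl, hl, ho, map_one]
    · rw [hbar, hbar, inv_one, hl, hl, map_inv, ho, inv_one, map_one]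
  have h3 : ∀ o : O, l o ^ 3 = 1 := by
    haveI : NeZero (Nat.card G) := ⟨Nat.card_pos.ne'⟩
    obtain ⟨u, hu⟩ := ZMod.unitsMap_surjective hdvd (ZMod.unitOfCoprime 2 (Nat.coprime_two_left.mpr h.odd))
    set k := (u : ZMod (Nat.card G)).val with hk'
    have hkG : k.Coprime (Nat.card G) := ZMod.val_coe_unit_coprime u
    have hk2 : k ≡ 2 [MOD m] := by
      rw [← ZMod.natCast_eq_natCast_iff]
      have e := congrArg (fun w : (ZMod m)ˣ => (w : ZMod m)) hu
      simp only [ZMod.unitsMap_val, ZMod.coe_unitOfCoprime] at e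
      rw [hk', ← e, ZMod.natCast_val]
    intro o
    have hmem : irrPow (hcop hkG) η ∈ S := by
      obtain ⟨-, h0, h1⟩ := Finset.mem_filter.mp hη
      refine Finset.mem_filter.mpr ⟨Finset.mem_univ _, by rw [hmult η _ hkG]; exact h0, fun e => h1 (funext fun g => ?_)⟩
      obtain ⟨g', rfl⟩ := (powBij_of_coprime (hcop hkG)).2 g
      exact congrFun e g'
    have e2 : (irrPow (hcop hkG) η : O → ℂ) o = ((l o ^ 2 : ℂˣ) : ℂ) := by
      rw [irrPow_apply, pow_eq_pow_mod k (n := m) (pow_card_eq_one'), show k % m = 2 % m from hk2,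
        ← pow_eq_pow_mod 2 (pow_card_eq_one'), hl, map_pow]
    rcases hpair _ hmem with e | e <;> rw [e] at e2
    · rw [hl] at e2
      have e3 : l o = l o ^ 2 := Units.ext e2
      have e4 : l o = 1 := by rw [sq] at e3; exact left_eq_mul.mp e3
      rw [e4, one_pow]
    · rw [hbar, hl, map_inv] at e2
      have e3 : (l o)⁻¹ = l o ^ 2 := Units.ext e2
      rw [pow_succ, ← e3, inv_mul_cancel]
  have hOc : IsCyclic O := isCyclic_of_subgroup_isDomain ((Units.coeHom ℂ).comp l)
    (Units.val_injective.comp hinj)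
  obtain ⟨o₀, ho₀⟩ := hOc.exists_generator
  have hord : orderOf o₀ = Nat.card O := orderOf_eq_card_of_forall_mem_zpowers ho₀
  have hm3 : m ≤ 3 := by
    rw [hm, ← hord]
    exact Nat.le_of_dvd (by norm_num) (orderOf_dvd_of_pow_eq_one (hinj (by rw [map_pow, h3, map_one])))
  refine ⟨hm3, fun hm3' o ho hone => ?_⟩
  let o' : O := ⟨o, π.mem_ker.mpr ho⟩
  have hmm : multIn hb (bar η) = 2 ∧ multIn hb η = 2 := by
    have a1 := hm2 _ hη
    have a2 := hm2 _ hbS
    have e : multIn hb (bar η) + multIn hb η ≤ 4 :=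
      le_trans (by
        rw [← Finset.sum_pair (f := fun ξ => multIn hb ξ) hbne]
        exact Finset.sum_le_sum_of_subset (by simp [Finset.insert_subset_iff, hη, hbS])) hScard
    omega
  have hz : (l o' : ℂ) ^ 2 + (l o' : ℂ) + 1 = 0 := by
    have e1 : (l o' : ℂ) ≠ 1 := fun e => hone (congrArg Subtype.val (hinj (show l o' = l 1 by
      rw [map_one]; exact Units.ext e)))
    have e3 : (l o' : ℂ) ^ 3 = 1 := by rw [← Units.val_pow_eq_pow_val, h3, Units.val_one]
    exact (mul_eq_zero.mp (show ((l o' : ℂ) - 1) * ((l o' : ℂ) ^ 2 + (l o' : ℂ) + 1) = 0 by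
      linear_combination e3)).resolve_left (sub_ne_zero.mpr e1)
  have hsplit : b o' = ∑ ξ ∈ ({bar η, η} : Finset (IrrCharacter O)), (multIn hb ξ : ℂ) * (ξ : O → ℂ) o' := by
    rw [apply_eq_sum_multIn hb o']
    symm
    refine Finset.sum_subset (Finset.subset_univ _) fun ξ _ hξ => ?_
    by_cases hξS : ξ ∈ S
    · rcases hpair ξ hξS with rfl | rfl <;> simp at hξ
    · have h0 : multIn hb ξ = 0 := by
        by_contra h0
        have h1 : (ξ : O → ℂ) = fun _ => 1 := by
          by_contra h1
          exact hξS (Finset.mem_filter.mpr ⟨Finset.mem_univ _, h0, h1⟩)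
        have e : multIn hb ξ * d ξ + (multIn hb (bar η) * d (bar η) + multIn hb η * d η) ≤ 4 := by
          rw [← hdsum, ← Finset.sum_pair (f := fun ξ => multIn hb ξ * d ξ) hbne,
            ← Finset.sum_insert (f := fun ξ => multIn hb ξ * d ξ) hξ]
          exact Finset.sum_le_univ_sum_of_nonneg fun _ => Nat.zero_le _
        rw [hlin _ hbS, hlin _ hη, hmm.1, hmm.2] at e
        have := Nat.pos_of_ne_zero h0
        have := hd0 ξ
        nlinarith
      rw [h0]; simp
  rw [Finset.sum_pair hbne, hmm.1, hmm.2, hbar, hl, hl, map_inv, Units.val_inv_eq_inv_val] at hsplit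
  have hl0 : (l o' : ℂ) ≠ 0 := Units.ne_zero _
  have hinv2 : ((l o' : ℂ))⁻¹ = (l o' : ℂ) ^ 2 :=
    inv_eq_of_mul_eq_one_right (by rw [← pow_succ', ← Units.val_pow_eq_pow_val, h3, Units.val_one])
  have e := hbχ o'
  rw [hsplit, hinv2] at e
  show χ ((o' : Cen t) : G) = _
  rw [e]
  push_cast
  linear_combination 4 * hz

end Hyp

end Cfsg.Lib.Small.GL23Core
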