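import Cfsg.Agent.Lib.Small.GL23Core.Bound
import Cfsg.Agent.Lib.Small.SecRankFour.RadQuot
import Cfsg.Agent.Lib.Block.CentralDefect
import Cfsg.Agent.Lib.PGroup.Basic
import Cfsg.Agent.S0144

/-!
# The order `151632`

The core of order three and a faithful rational character of degree twelve vanishing on it.
-/

set_option autoImplicit false
set_option linter.style.haveILetI false
set_option linter.unusedSectionVars false
set_option linter.unusedDecidableInType false
set_option maxRecDepth 4000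
set_option maxHeartbeats 400000

namespace Cfsg.Lib.Small.GL23Core

open Subgroup Cfsg Cfsg.Lib.Char Cfsg.Lib.Small.CentralizerGL23
open scoped ComplexConjugate commutatorElement IntermediateField

universe u

noncomputable local instance (priority := high) fintypeSubgroupGL23Case {A : Type u}
    [Group A] [Fintype A] (H : Subgroup A) : Fintype H := Fintype.ofFinite H

theorem cent_five : ∀ a : GL23, a * a = 1 → a ≠ 1 → a ≠ -1 → cls (a : Mat) = 5 := by decide +kernel

variable {G : Type u} [Group G] [Fintype G]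

/-- A rational function is invariant under the power maps of a subgroup. -/
theorem pow_invariant_of_rational (Q : Subgroup G) {χ : G → ℂ}
    (hrat : ∀ k : ℕ, k.Coprime (Nat.card G) → ∀ x, χ (x ^ k) = χ x) {k : ℕ}
    (hk : k.Coprime (Nat.card Q)) (g : Q) : χ ((g : G) ^ k) = χ (g : G) := by
  haveI : NeZero (Nat.card G) := ⟨Nat.card_pos.ne'⟩
  obtain ⟨u, hu⟩ := ZMod.unitsMap_surjective (card_subgroup_dvd_card Q) (ZMod.unitOfCoprime k hk)
  set k' := (u : ZMod (Nat.card G)).val with hk'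
  have hk2 : k' ≡ k [MOD Nat.card Q] := by
    rw [← ZMod.natCast_eq_natCast_iff]
    have e := congrArg (fun w : (ZMod (Nat.card Q))ˣ => (w : ZMod (Nat.card Q))) hu
    simp only [ZMod.unitsMap_val, ZMod.coe_unitOfCoprime] at e
    rw [hk', ← e, ZMod.natCast_val]
  rw [← SubmonoidClass.coe_pow, pow_eq_pow_mod k (n := Nat.card Q) pow_card_eq_one',
    show k % Nat.card Q = k' % Nat.card Q from hk2.symm, ← pow_eq_pow_mod k' (n := Nat.card Q) pow_card_eq_one',
    SubmonoidClass.coe_pow, hrat k' (ZMod.val_coe_unit_coprime u)]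

/-- A group of order `3 ^ 6` with center of order three has no faithful rational character of
degree twelve. -/
theorem no_degree_twelve {Q : Type u} [Group Q] [Fintype Q] (hQ : Nat.card Q = 3 ^ 6)
    (hZ : Nat.card (center Q) = 3) {χ : Q → ℂ} (hχ : IsCharacter Q χ) (hD : χ 1 = 12)
    (hfaith : ∀ g, χ g = χ 1 → g = 1)
    (hrat : ∀ k : ℕ, k.Coprime (Nat.card Q) → ∀ g, χ (g ^ k) = χ g) : False := by
  classical
  haveI : Fact (Nat.Prime 3) := ⟨Nat.prime_three⟩
  obtain ⟨z, hz⟩ := exists_prime_orderOf_dvd_card' (G := center Q) 3 (dvd_of_eq hZ.symm)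
  have hz1 : (z : Q) ≠ 1 := fun e => by
    rw [← orderOf_coe, e, orderOf_one] at hz
    omega
  obtain ⟨η, hη0, hηz⟩ : ∃ η : IrrCharacter Q, multIn hχ η ≠ 0 ∧ (η : Q → ℂ) z ≠ (η : Q → ℂ) 1 := by
    by_contra hne
    push Not at hne
    refine hz1 (hfaith _ ?_)
    rw [apply_eq_sum_multIn hχ, apply_eq_sum_multIn hχ]
    refine Finset.sum_congr rfl fun φ _ => ?_
    by_cases h0 : multIn hχ φ = 0
    · rw [h0]; simp
    · rw [hne φ h0]
  have hηf : ∀ g : Q, (η : Q → ℂ) g = (η : Q → ℂ) 1 → g = 1 := by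
    intro g hg
    by_contra hg1
    haveI := charKer_normal η.2.isCharacter
    have hne : charKer η.2.isCharacter ≠ ⊥ := fun e => hg1 (by
      rw [← mem_bot, ← e]; exact hg)
    obtain ⟨w, hw, hwc, hwo⟩ := PGroup.exists_mem_center_orderOf_eq (IsPGroup.of_card hQ) hne
    have hzw : zpowers (⟨w, hwc⟩ : center Q) = ⊤ := eq_top_of_card_eq _ (by
      rw [Nat.card_zpowers, ← orderOf_coe, hwo, hZ])
    obtain ⟨i, hi⟩ : z ∈ zpowers (⟨w, hwc⟩ : center Q) := hzw ▸ mem_top _
    refine hηz ((mem_charKer η.2.isCharacter).1 ?_)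
    rw [← hi, SubgroupClass.coe_zpow]
    exact zpow_mem hw i
  obtain ⟨d, hd0, hd⟩ := η.2.exists_degree
  obtain ⟨t, ht⟩ := exists_finrank_eq Nat.prime_three hQ η ⟨_, hηz⟩
  set O := (Finset.univ : Finset (IrrCharacter Q)).filter fun φ => IsTwist η φ with hO
  have hle := finrank_le_card_twist η O fun φ h => Finset.mem_filter.mpr ⟨Finset.mem_univ _, h⟩
  rw [ht] at hle
  have hmem : ∀ φ ∈ O, (φ : Q → ℂ) 1 = (d : ℂ) ∧ 1 ≤ multIn hχ φ := by
    intro φ hφ
    obtain ⟨k, hk, rfl⟩ := (Finset.mem_filter.mp hφ).2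
    refine ⟨by rw [irrPow_apply, one_pow, hd], Nat.pos_of_ne_zero ?_⟩
    have h := classInner_comp_pow hk χ (η : Q → ℂ)
    rw [show (fun g => χ (g ^ k)) = χ from funext fun g => hrat k hk g, classInner_eq_multIn hχ η] at h
    have h' : multIn hχ (irrPow hk η) = multIn hχ η := by
      exact_mod_cast (classInner_eq_multIn hχ (irrPow hk η)).symm.trans h
    rw [h']; exact hη0
  choose e he0 he using fun φ : IrrCharacter Q => φ.2.exists_degree
  have hdeg : O.card * d ≤ 12 := by
    have h := apply_eq_sum_multIn hχ 1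
    simp only [hD, he] at h
    have h' : (12 : ℕ) = ∑ φ, multIn hχ φ * e φ := by exact_mod_cast h
    rw [h']
    calc O.card * d = ∑ _φ ∈ O, d := by rw [Finset.sum_const, smul_eq_mul]
      _ ≤ ∑ φ ∈ O, multIn hχ φ * e φ := Finset.sum_le_sum fun φ hφ => by
          obtain ⟨h1, h2⟩ := hmem φ hφ
          rw [he] at h1
          rw [show e φ = d by exact_mod_cast h1]
          exact Nat.le_mul_of_pos_left _ h2
      _ ≤ _ := Finset.sum_le_univ_sum_of_nonneg fun _ => Nat.zero_le _
  haveI : FiniteDimensional ℚ (IntermediateField.adjoin ℚ (Set.range (η : Q → ℂ))) :=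
    Module.finite_of_finrank_pos (ht ▸ Nat.mul_pos (by norm_num) (pow_pos (by norm_num) t))
  have hb := pBound_all Nat.prime_three 6 Q hQ _ η.2 hηf
    (IntermediateField.adjoin ℚ (Set.range (η : Q → ℂ)))
    (fun g => IntermediateField.subset_adjoin _ _ ⟨g, rfl⟩) t ht.le d hd
  obtain ⟨s, -, hs⟩ := (Nat.dvd_prime_pow Nat.prime_three).1 (hQ ▸ degree_dvd_card η.2 hd)
  have h1 : (3 - 1) * 3 ^ t * d ≤ 12 := le_trans (Nat.mul_le_mul_right _ hle) hdeg
  have hs2 : s < 2 := by
    by_contra hc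
    have h9 : 3 ^ 2 ≤ 3 ^ s := Nat.pow_le_pow_right (by norm_num) (by omega)
    have : 0 < 3 ^ t := pow_pos (by norm_num) t
    rw [hs] at h1
    nlinarith
  have ht2 : t < 2 := by
    by_contra hc
    have h9 : 3 ^ 2 ≤ 3 ^ t := Nat.pow_le_pow_right (by norm_num) (by omega)
    nlinarith
  interval_cases s <;> interval_cases t <;> simp only [hs] at hb h1 <;> omega

variable {t : G} {π : Cen t →* GL23}

namespace Hyp

variable (h : Hyp t π)
include h

theorem exists_quat_lift (Z : Subgroup (Cen t)) (hodd : ∀ c : Cen t, Odd (orderOf c) → c ∈ Z) :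
    ∃ R : Subgroup (Cen t), R ≤ Z ∧ IsPGroup 2 R ∧ Nat.card R = 8 ∧ tc t ∈ R ∧
      (∀ x ∈ R, π x ∈ quat) ∧ ∀ a ∈ quat, ∃ x ∈ R, π x = a := by
  classical
  haveI : Fact (Nat.Prime 2) := ⟨Nat.prime_two⟩
  have hZ3 : ∀ x : GL23, x * x * x = 1 → x ∈ Z.map π := by
    intro x hx
    obtain ⟨c, rfl⟩ := h.surj x
    refine ⟨c, hodd c ?_, rfl⟩
    refine Odd.of_dvd_nat (Odd.mul (by decide : Odd 3) h.odd) (orderOf_dvd_of_pow_eq_one ?_)
    rw [pow_mul]
    exact orderOf_dvd_iff_pow_eq_one.mp (π.ker.orderOf_dvd_natCard (π.mem_ker.mpr (by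
      rw [map_pow, pow_succ, sq, hx])))
  have hquat : quat ≤ Z.map π := by
    intro a ha
    obtain ⟨i, j, hi, -, -, hii⟩ := quat_comm
    have h4 : ∀ a : GL23, cls (a : Mat) = 4 → a ∈ Z.map π := fun a ha => by
      obtain ⟨x, y, hx, hy, rfl⟩ := four_eq_mul a ha
      exact mul_mem (hZ3 x hx) (hZ3 y hy)
    rcases (ha : cls (a : Mat) = 0 ∨ cls (a : Mat) = 1 ∨ cls (a : Mat) = 4) with e | e | e
    · have := isConj_repU a; rw [e] at this
      rw [show a = 1 from (isConj_one_right.mp (show IsConj 1 a from this))]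
      exact one_mem _
    · have := isConj_repU a; rw [e] at this
      obtain ⟨c, hc⟩ := isConj_iff.mp this
      rw [show a = -1 by rw [← hc]; simp [repU], ← hii]
      exact mul_mem (h4 i hi) (h4 i hi)
    · exact h4 a e
  set W : Subgroup (Cen t) := Z ⊓ quat.comap π with hW
  let πW : W →* quat := (π.comp W.subtype).codRestrict quat fun x => x.2.2
  have hπW : Function.Surjective πW := fun a => by
    obtain ⟨z, hz, e⟩ := hquat a.2
    exact ⟨⟨z, hz, show π z ∈ quat from e ▸ a.2⟩, Subtype.ext e⟩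
  obtain ⟨S⟩ : Nonempty (Sylow 2 W) := inferInstance
  have hSq : (S.mapSurjective hπW : Subgroup quat) = ⊤ :=
    top_le_iff.mp (le_of_eq ((S.mapSurjective hπW).is_maximal'
      ((IsPGroup.of_card (n := 3) (by rw [card_quat]; rfl) : IsPGroup 2 quat).to_subgroup ⊤) le_top))
  set R := (S : Subgroup W).map W.subtype with hR
  have hpR : IsPGroup 2 R := S.isPGroup'.map W.subtype
  have hlift : ∀ a ∈ quat, ∃ x ∈ R, π x = a := by
    intro a ha
    obtain ⟨z, hz, e⟩ : (⟨a, ha⟩ : quat) ∈ (S.mapSurjective hπW : Subgroup quat) := hSq ▸ mem_top _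
    exact ⟨z.1, mem_map_of_mem W.subtype hz, congrArg Subtype.val e⟩
  have hinj : ∀ x ∈ R, π x = 1 → x = 1 := fun x hx e => by
    obtain ⟨j, hj⟩ := hpR ⟨x, hx⟩
    exact h.eq_one_of_two_pow e (j := j) (congrArg Subtype.val hj)
  have hRq : ∀ x ∈ R, π x ∈ quat := by rintro _ ⟨w, -, rfl⟩; exact w.2.2
  refine ⟨R, ?_, hpR, ?_, ?_, hRq, hlift⟩
  · rintro _ ⟨w, -, rfl⟩; exact w.2.1
  · rw [← card_quat]
    refine Nat.card_eq_of_bijective (fun z : R => (⟨π z.1, hRq _ z.2⟩ : quat)) ⟨fun a b e => ?_, fun a => ?_⟩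
    · refine Subtype.ext (inv_mul_eq_one.mp (hinj _ (R.mul_mem (inv_mem a.2) b.2) ?_))
      rw [map_mul, map_inv, show π a.1 = π b.1 from congrArg Subtype.val e, inv_mul_cancel]
    · obtain ⟨z, hz, e⟩ := hlift a a.2
      exact ⟨⟨z, hz⟩, Subtype.ext e⟩
  · obtain ⟨z, hz, e⟩ := hlift (-1) (Or.inr (Or.inl (by decide +kernel)))
    obtain ⟨j, hj⟩ := hpR ⟨z, hz⟩
    have := h.eq_tc_of_two_pow e (j := j) (by
      rw [pow_succ, pow_mul, show z ^ 2 ^ j = 1 from congrArg Subtype.val hj, one_pow])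
    rwa [← this]

open Classical in
/-- A three-subgroup through the core normalized by the quaternion group centralizes the involution. -/
theorem commute_of_three {χ : G → ℂ} (hχ : IsCharacter G χ) (hD : χ 1 = 12)
    (hfaith : ∀ g, χ g = χ 1 → g = 1) {o : Cen t} (hoc : orderOf o = 3) (hχo : χ (o : G) = 0)
    (hχo2 : χ ((o : G)⁻¹) = 0) {R : Subgroup (Cen t)} (hR2 : IsPGroup 2 R) (hR8 : Nat.card R = 8)
    (hRo : ∀ r ∈ R, r * o = o * r) (hRquat : ∀ r ∈ R, π r ∈ quat) {K : Subgroup G}
    (hK : IsPGroup 3 K) (hoK : (o : G) ∈ K) (hKo : ∀ x ∈ K, x * (o : G) = (o : G) * x)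
    (hKcomm : ∀ x ∈ K, ∀ y ∈ K, ⁅x, y⁆ ∈ zpowers (o : G))
    (hKR : ∀ r ∈ R, ∀ x ∈ K, (r : G) * x * (r : G)⁻¹ ∈ K) (hRtc : tc t ∈ R) :
    ∀ x ∈ K, x * t = t * x := by
  haveI : Fact (Nat.Prime 3) := ⟨Nat.prime_three⟩
  have hc : IsCharacter K fun x : K => χ (x : G) := hχ.comp K.subtype
  choose d hd0 hd using fun η : IrrCharacter K => η.2.exists_degree
  let oK : K := ⟨o, hoK⟩
  have hoKc : oK ∈ center K := mem_center_iff.mpr fun x => Subtype.ext (hKo x x.2)
  choose w hw hwe using fun η : IrrCharacter K => Block.exists_central_scalar η hoKc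
  have horK : orderOf oK = 3 := (orderOf_coe oK).symm.trans ((orderOf_coe o).trans hoc)
  have hval : ∀ η : IrrCharacter K, (η : K → ℂ) oK = w η * d η := fun η => by
    have e := hwe η 1
    rwa [mul_one, hd] at e
  have hval2 : ∀ η : IrrCharacter K, (η : K → ℂ) oK⁻¹ = w η ^ 2 * d η := fun η => by
    have e := hwe η oK
    rw [← sq, hval] at e
    rw [show oK⁻¹ = oK ^ 2 from inv_eq_of_mul_eq_one_right (by
      rw [← pow_succ']; show oK ^ 3 = 1; rw [← horK, pow_orderOf_eq_one]), e]
    ring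
  -- the three eigenspaces have dimension four
  have hblock : ∀ c : ℂ, c ^ 3 = 1 → ∑ η ∈ (Finset.univ : Finset (IrrCharacter K)).filter (fun η => w η = c),
      multIn hc η * d η = 4 := by
    intro c hc3
    have e0 := apply_eq_sum_multIn hc 1
    have e1 := apply_eq_sum_multIn hc oK
    have e2 := apply_eq_sum_multIn hc oK⁻¹
    simp only [coe_one, hD, hd] at e0
    simp only [hval, show χ ((oK : K) : G) = 0 from hχo] at e1
    simp only [hval2, show χ ((oK⁻¹ : K) : G) = 0 from hχo2] at e2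
    have key : (∑ η ∈ (Finset.univ : Finset (IrrCharacter K)).filter (fun η => w η = c),
        ((multIn hc η * d η : ℕ) : ℂ)) * 3 = 12 := by
      rw [Finset.sum_filter, Finset.sum_mul]
      calc _ = ∑ η : IrrCharacter K, ((multIn hc η : ℂ) * (d η : ℂ) + c ^ 2 * ((multIn hc η : ℂ) * (w η * d η))
            + c * ((multIn hc η : ℂ) * (w η ^ 2 * d η))) := by
            refine Finset.sum_congr rfl fun η _ => ?_
            split_ifs with hwc
            · rw [hwc]; push_cast; linear_combination (-2 * (multIn hc η : ℂ) * d η) * hc3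
            · rw [zero_mul]
              have h3 : w η ^ 3 = 1 := horK ▸ hw η
              have : (w η - c) * ((multIn hc η : ℂ) * d η + c ^ 2 * ((multIn hc η : ℂ) * (w η * d η))
                  + c * ((multIn hc η : ℂ) * (w η ^ 2 * d η))) = 0 := by
                linear_combination ((multIn hc η : ℂ) * d η * c) * h3 - ((multIn hc η : ℂ) * d η * c) * hc3
                  + ((multIn hc η : ℂ) * d η * (c - w η)) * hc3
              exact ((mul_eq_zero.mp this).resolve_left (sub_ne_zero.mpr hwc)).symm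
        _ = 12 := by
            rw [Finset.sum_add_distrib, Finset.sum_add_distrib, ← Finset.mul_sum, ← Finset.mul_sum, ← e0, ← e1,
              ← e2]
            ring
    have key' : ((∑ η ∈ (Finset.univ : Finset (IrrCharacter K)).filter (fun η => w η = c),
        multIn hc η * d η : ℕ) : ℂ) * 3 = ((4 : ℕ) : ℂ) * 3 := by
      push_cast at key ⊢; rw [key]; norm_num
    exact_mod_cast mul_right_cancel₀ (by norm_num) key'
  -- no constituent is nonlinear
  have hlin : ∀ η : IrrCharacter K, multIn hc η ≠ 0 → d η = 1 := by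
    intro η hη
    by_contra hne
    -- a commutator is a nontrivial power of the central element
    obtain ⟨x, y, hxy⟩ : ∃ x y : K, ⁅x, y⁆ ≠ 1 := by
      by_contra hab
      push Not at hab
      have hab' : ∀ a b : K, a * b = b * a := fun a b => commutatorElement_eq_one_iff_mul_comm.mp (hab a b)
      have e := degree_eq_one_of_comm hab' η.2
      rw [hd] at e
      exact hne (by exact_mod_cast e)
    obtain ⟨i, hi⟩ := hKcomm x x.2 y y.2
    have hi' : oK ^ i = ⁅x, y⁆ := Subtype.ext (by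
      simpa [oK, commutatorElement_def] using hi)
    set c := Complex.exp (2 * Real.pi * Complex.I / 3) with hcdef
    have hprim : IsPrimitiveRoot c 3 := by
      have := Complex.isPrimitiveRoot_exp 3 (by norm_num); simpa [hcdef] using this
    have h4 := hblock c hprim.pow_eq_one
    have hall : ∀ φ ∈ (Finset.univ : Finset (IrrCharacter K)).filter (fun η => w η = c), 3 ∣ d φ := by
      intro φ hφ
      have hwφ : w φ = c := (Finset.mem_filter.mp hφ).2
      obtain ⟨k, hk⟩ := IsPGroup.iff_card.mp hK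
      obtain ⟨j, -, hj⟩ := (Nat.dvd_prime_pow Nat.prime_three).1 (hk ▸ degree_dvd_card φ.2 (hd φ))
      rcases Nat.eq_zero_or_pos j with rfl | hj0
      · exfalso
        obtain ⟨l, hl⟩ := exists_hom_of_degree_one φ.2.isCharacter (by rw [hd, hj, pow_zero, Nat.cast_one])
        have h1 : l oK ^ i = 1 := by
          rw [← map_zpow, hi', map_commutatorElement, commutatorElement_eq_one_iff_commute]
          exact Commute.all _ _
        have hlc : (l oK : ℂ) = c := by
          rw [← congrFun hl oK, hval, hwφ, hj]; simp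
        have h3 : ((3 : ℕ) : ℤ) ∣ i := (hprim.zpow_eq_one_iff_dvd i).mp (by
          rw [← hlc, ← Units.val_zpow_eq_zpow_val, h1, Units.val_one])
        obtain ⟨q, hq⟩ := h3
        apply hxy
        rw [← hi', hq, zpow_mul, zpow_natCast, ← horK, pow_orderOf_eq_one, one_zpow]
      · rw [hj]; exact dvd_pow_self 3 hj0.ne'
    have h3 : (3 : ℕ) ∣ 4 := h4 ▸ Finset.dvd_sum fun φ hφ => dvd_mul_of_dvd_right (hall φ hφ) _
    omega
  -- each constituent is fixed by the involution
  intro x hx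
  let conjK : R → K →* K := fun r =>
    { toFun := fun k => ⟨(r : G) * k * (r : G)⁻¹, hKR r r.2 k k.2⟩
      map_one' := Subtype.ext (by simp)
      map_mul' := fun a b => Subtype.ext (by simp [mul_assoc]) }
  have hconj : ∀ (r : R) (k : K), ((conjK r k : K) : G) = (r : G) * k * (r : G)⁻¹ := fun r k => rfl
  have hcsurj : ∀ r : R, Function.Surjective (conjK r) := fun r k =>
    ⟨conjK r⁻¹ k, Subtype.ext (by simp [hconj, mul_assoc])⟩
  let σ : R → IrrCharacter K → IrrCharacter K := fun r η =>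
    ⟨fun k => (η : K → ℂ) (conjK r k), η.2.comp_surjective _ (hcsurj r)⟩
  have hσm : ∀ r η, multIn hc (σ r η) = multIn hc η := by
    intro r η
    have e : classInner (fun k : K => χ (k : G)) (σ r η : K → ℂ) = classInner (fun k : K => χ (k : G)) (η : K → ℂ) := by
      simp only [classInner]
      congr 1
      refine (Fintype.sum_bijective (conjK r) ((Finite.surjective_iff_bijective).mp (hcsurj r)) _ _ fun k => ?_)
      show χ (k : G) * _ = χ ((conjK r k : K) : G) * _
      rw [hconj, hχ.isClassFunction]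
    rw [classInner_eq_multIn hc, classInner_eq_multIn hc] at e
    exact_mod_cast e
  have hxfix : ∀ η : IrrCharacter K, multIn hc η ≠ 0 →
      (η : K → ℂ) (conjK ⟨tc t, hRtc⟩ ⟨x, hx⟩) = (η : K → ℂ) ⟨x, hx⟩ := by
    intro η hη
    set B := (Finset.univ : Finset (IrrCharacter K)).filter (fun φ => w φ = w η ∧ multIn hc φ ≠ 0) with hB
    have hB4 : B.card ≤ 4 := by
      rw [← hblock (w η) (horK ▸ hw η), Finset.card_eq_sum_ones]
      refine le_trans (Finset.sum_le_sum (g := fun φ => multIn hc φ * d φ) fun φ hφ =>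
        Nat.mul_pos (Nat.pos_of_ne_zero (Finset.mem_filter.mp hφ).2.2) (hd0 φ))
        (Finset.sum_le_sum_of_subset fun φ hφ => ?_)
      exact Finset.mem_filter.mpr ⟨Finset.mem_univ _, (Finset.mem_filter.mp hφ).2.1⟩
    have hmaps : ∀ r : R, σ r η ∈ B := by
      intro r
      refine Finset.mem_filter.mpr ⟨Finset.mem_univ _, ?_, by rw [hσm]; exact hη⟩
      have e : (σ r η : K → ℂ) oK = (η : K → ℂ) oK := by
        show (η : K → ℂ) (conjK r oK) = _
        refine congrArg (η : K → ℂ) (Subtype.ext ?_)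
        rw [hconj]
        show ((r : Cen t) : G) * (o : G) * ((r : Cen t) : G)⁻¹ = o
        rw [← coe_mul, hRo r r.2, coe_mul, mul_inv_cancel_right]
      rw [hval, hval, hlin η hη, hlin (σ r η) (by rw [hσm]; exact hη)] at e
      simpa using e
    obtain ⟨r₁, -, r₂, -, hne, hr⟩ := Finset.exists_ne_map_eq_of_card_lt_of_maps_to
      (s := (Finset.univ : Finset R)) (t := B) (by
        rw [Finset.card_univ, ← Nat.card_eq_fintype_card, hR8]; omega) (fun r _ => hmaps r)
    have hcomp : ∀ a b : R, ∀ k, conjK a (conjK b k) = conjK (a * b) k := fun a b k => Subtype.ext (by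
      simp [hconj, mul_assoc])
    let St : Subgroup R :=
      { carrier := {r | ∀ k, (η : K → ℂ) (conjK r k) = (η : K → ℂ) k}
        one_mem' := fun k => congrArg _ (Subtype.ext (by simp [hconj]))
        mul_mem' := fun {a b} ha hb k => by rw [← hcomp, ha, hb]
        inv_mem' := fun {a} ha k => by
          rw [← ha (conjK a⁻¹ k), hcomp]
          exact congrArg _ (Subtype.ext (by simp [hconj])) }
    have hr0 : r₂ * r₁⁻¹ ∈ St := fun k => by
      have e := congrArg (fun ξ : IrrCharacter K => (ξ : K → ℂ) (conjK r₁⁻¹ k)) hr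
      change (η : K → ℂ) (conjK r₁ (conjK r₁⁻¹ k)) = (η : K → ℂ) (conjK r₂ (conjK r₁⁻¹ k)) at e
      rw [hcomp, hcomp] at e
      rw [← e]
      exact congrArg _ (Subtype.ext (by simp [hconj]))
    have hne1 : r₂ * r₁⁻¹ ≠ 1 := fun e => hne (mul_inv_eq_one.mp e).symm
    haveI : Fact (Nat.Prime 2) := ⟨Nat.prime_two⟩
    obtain ⟨z, hz, hzo⟩ : ∃ z ∈ St, orderOf z = 2 := by
      have h2 : 2 ∣ Nat.card St := by
        obtain ⟨j, -, hj⟩ := (Nat.dvd_prime_pow Nat.prime_two).1
          (show Nat.card St ∣ 2 ^ 3 by rw [show (2 : ℕ) ^ 3 = Nat.card R by rw [hR8]; rfl]; exact card_subgroup_dvd_card St)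
        rcases Nat.eq_zero_or_pos j with rfl | hj0
        · exact absurd ((card_eq_one.mp hj) ▸ hr0 : r₂ * r₁⁻¹ ∈ (⊥ : Subgroup R)) (by simpa using hne1)
        · rw [hj]; exact dvd_pow_self 2 hj0.ne'
      obtain ⟨z, hz⟩ := exists_prime_orderOf_dvd_card' (G := St) 2 h2
      exact ⟨z.1, z.2, by rw [orderOf_coe, hz]⟩
    have hzt : z = ⟨tc t, hRtc⟩ := Subtype.ext (by
      have hz2 : (z : Cen t) * z = 1 := by
        rw [← sq, ← hzo, ← orderOf_coe, pow_orderOf_eq_one]
      have hzπ : π (z : Cen t) * π (z : Cen t) = 1 := by rw [← map_mul, hz2, map_one]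
      have hz1 : π (z : Cen t) ≠ 1 := fun e => by
        have := h.eq_one_of_two_pow e (j := 1) (by rw [pow_one, sq, hz2])
        rw [← orderOf_coe, this, orderOf_one] at hzo
        omega
      exact h.eq_tc_of_two_pow (j := 0) (quat_invol _ (hRquat _ z.2) hzπ hz1) (by simpa [sq] using hz2))
    exact hzt ▸ hz ⟨x, hx⟩
  have e : χ ((conjK ⟨tc t, hRtc⟩ ⟨x, hx⟩ * ⟨x, hx⟩⁻¹ : K) : G) = χ ((1 : K) : G) := by
    rw [apply_eq_sum_multIn hc, apply_eq_sum_multIn hc 1]
    refine Finset.sum_congr rfl fun η _ => ?_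
    by_cases h0 : multIn hc η = 0
    · rw [h0]; simp
    · obtain ⟨l, hl⟩ := exists_hom_of_degree_one η.2.isCharacter (by rw [hd, hlin η h0, Nat.cast_one])
      have e := hxfix η h0
      rw [congrFun hl, congrFun hl] at e
      rw [congrFun hl, congrFun hl, map_mul, Units.ext e, ← map_mul, mul_inv_cancel]
  have e' := mul_inv_eq_one.mp (hfaith _ (by simpa [hconj] using e) : t * x * t⁻¹ * x⁻¹ = 1)
  rw [mul_inv_eq_iff_eq_mul] at e'
  exact e'.symm

set_option maxHeartbeats 1000000 in
theorem case_false {χ : G → ℂ} (hχ : IsCharacter G χ)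
    (hrat : ∀ k : ℕ, k.Coprime (Nat.card G) → ∀ x, χ (x ^ k) = χ x)
    (hfaith : ∀ g, χ g = χ 1 → g = 1) (hD : χ 1 = 12)
    (hker : Nat.card π.ker = 3) (hχo : ∀ o : Cen t, π o = 1 → o ≠ 1 → χ (o : G) = 0)
    {s₀ : Cen t} (hs₀ : ∀ o : Cen t, π o = 1 → s₀ * o * s₀⁻¹ = o⁻¹)
    (hcard : Nat.card G = 151632)
    (hcent : ∀ x : G, orderOf x = 13 → centralizer ({x} : Set G) = zpowers x) : False := by
  classical
  haveI : Fact (Nat.Prime 2) := ⟨Nat.prime_two⟩
  haveI : Fact (Nat.Prime 3) := ⟨Nat.prime_three⟩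
  obtain ⟨o', ho'⟩ := exists_prime_orderOf_dvd_card' (G := π.ker) 3 (dvd_of_eq hker.symm)
  set o : Cen t := (o' : Cen t) with ho
  have hπo : π o = 1 := π.mem_ker.mp o'.2
  have hoc : orderOf o = 3 := by rw [ho, orderOf_coe, ho']
  have ho1 : o ≠ 1 := fun e => by rw [e, orderOf_one] at hoc; omega
  have hoinv : o⁻¹ ≠ 1 := fun e => ho1 (inv_eq_one.mp e)
  have hzo : ∀ c : Cen t, c * o * c⁻¹ = o ∨ c * o * c⁻¹ = o⁻¹ := by
    intro c
    have hk : c * o * c⁻¹ ∈ π.ker := π.normal_ker.conj_mem _ o'.2 c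
    have hz : zpowers o' = ⊤ := eq_top_of_card_eq _ (by rw [Nat.card_zpowers, ho', hker])
    obtain ⟨i, hi⟩ : (⟨c * o * c⁻¹, hk⟩ : π.ker) ∈ zpowers o' := hz ▸ mem_top _
    have hi' : o ^ i = c * o * c⁻¹ := congrArg Subtype.val hi
    rw [← zpow_mod_orderOf, hoc] at hi'
    rcases (show i % (3 : ℤ) = 0 ∨ i % (3 : ℤ) = 1 ∨ i % (3 : ℤ) = 2 by omega) with e | e | e <;>
      rw [show (((3 : ℕ) : ℤ)) = 3 from rfl, e] at hi'
    · rw [zpow_zero] at hi'
      exact absurd (conj_eq_one_iff.mp hi'.symm) ho1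
    · exact Or.inl (by rw [← hi', zpow_one])
    · refine Or.inr ?_
      rw [← hi', show (2 : ℤ) = ((2 : ℕ) : ℤ) from rfl, zpow_natCast]
      exact (inv_eq_of_mul_eq_one_right (by rw [← pow_succ']; show o ^ 3 = 1; rw [← hoc, pow_orderOf_eq_one])).symm
  set Z : Subgroup (Cen t) := centralizer ({o} : Set (Cen t)) with hZdef
  have hodd : ∀ c : Cen t, Odd (orderOf c) → c ∈ Z := by
    intro c hc
    refine mem_centralizer_singleton_iff.mpr (mul_inv_eq_iff_eq_mul.mp ?_)
    rcases hzo c with e | e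
    · exact e
    · exfalso
      have h2 : c ^ 2 ∈ Z := mem_centralizer_singleton_iff.mpr (mul_inv_eq_iff_eq_mul.mp (by
        rw [sq, show c * c * o * (c * c)⁻¹ = c * (c * o * c⁻¹) * c⁻¹ by group, e,
          show c * o⁻¹ * c⁻¹ = (c * o * c⁻¹)⁻¹ by group, e, inv_inv]))
      obtain ⟨j, hj⟩ := hc
      have hcZ : c ∈ Z := by
        have : (c ^ 2) ^ (j + 1) = c := by
          rw [← pow_mul, show 2 * (j + 1) = orderOf c + 1 by omega, pow_succ, pow_orderOf_eq_one, one_mul]
        rw [← this]; exact pow_mem h2 _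
      rw [mem_centralizer_singleton_iff.mp hcZ, mul_inv_cancel_right] at e
      exact ho1 (h.eq_one_of_two_pow hπo (j := 1) (by rw [pow_one, sq]; nth_rw 1 [e]; exact inv_mul_cancel o))
  obtain ⟨R, hRZ, hR2, hR8, hRtc, hRquat, hRlift⟩ := h.exists_quat_lift Z hodd
  have hRo : ∀ r ∈ R, r * o = o * r := fun r hr => mem_centralizer_singleton_iff.mp (hRZ hr)
  set H : Subgroup G := centralizer ({(o : G)} : Set G) with hH
  have hoH : (o : G) ∈ H := mem_centralizer_singleton_iff.mpr rfl
  have hRH : ∀ r ∈ R, (r : G) ∈ H := fun r hr =>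
    mem_centralizer_singleton_iff.mpr (congrArg Subtype.val (hRo r hr))
  have hχo' : χ (o : G) = 0 := hχo o hπo ho1
  have hχo'' : χ ((o : G)⁻¹) = 0 := by
    rw [← coe_inv]; exact hχo _ (by rw [map_inv, hπo, inv_one]) hoinv
  have h13 : ¬ 13 ∣ Nat.card H := by
    intro d
    haveI : Fact (Nat.Prime 13) := ⟨by norm_num⟩
    obtain ⟨y, hy⟩ := exists_prime_orderOf_dvd_card' (G := H) 13 d
    have hy' : orderOf (y : G) = 13 := by rw [orderOf_coe, hy]
    have hoy : (o : G) ∈ centralizer ({(y : G)} : Set G) :=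
      mem_centralizer_singleton_iff.mpr (mem_centralizer_singleton_iff.mp y.2).symm
    rw [hcent _ hy'] at hoy
    have := orderOf_dvd_natCard (⟨_, hoy⟩ : zpowers (y : G))
    rw [orderOf_mk, Nat.card_zpowers, hy', orderOf_coe, hoc] at this
    omega
  have hHdvd : Nat.card H ∣ 2 ^ 4 * 3 ^ 6 :=
    ((Nat.Prime.coprime_iff_not_dvd (by norm_num : Nat.Prime 13)).mpr h13).symm.dvd_of_dvd_mul_right
      (by rw [show (2 : ℕ) ^ 4 * 3 ^ 6 * 13 = 151632 by norm_num, ← hcard]; exact card_subgroup_dvd_card H)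
  obtain ⟨a', b', ha', hb', hHab⟩ := (Nat.dvd_mul).mp hHdvd
  obtain ⟨a, haa, rfl⟩ := (Nat.dvd_prime_pow Nat.prime_two).mp ha'
  obtain ⟨b, hbb, rfl⟩ := (Nat.dvd_prime_pow Nat.prime_three).mp hb'
  by_cases hb3 : 3 ≤ b
  swap
  · -- the centralizer has three-part at most nine
    have hoP : IsPGroup 3 (zpowers (o : G)) := IsPGroup.of_card (n := 1) (by
      rw [Nat.card_zpowers, orderOf_coe, hoc, pow_one])
    obtain ⟨Q, hQ⟩ := hoP.exists_le_sylow
    have hQc : Nat.card (Q : Subgroup G) = 3 ^ 6 := by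
      rw [Q.card_eq_multiplicity, hcard, show (151632 : ℕ) = 3 ^ 6 * 208 by norm_num,
        Nat.factorization_mul (by norm_num) (by norm_num), Finsupp.add_apply,
        Nat.Prime.factorization_pow Nat.prime_three, Finsupp.single_eq_same,
        Nat.factorization_eq_zero_of_not_dvd (by norm_num), add_zero]
    have hoQ : (o : G) ∈ (Q : Subgroup G) := hQ (mem_zpowers _)
    let oQ : (Q : Subgroup G) := ⟨o, hoQ⟩
    have hCQ : Nat.card (centralizer ({oQ} : Set (Q : Subgroup G))) ≤ 9 := by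
      have hd : Nat.card (centralizer ({oQ} : Set (Q : Subgroup G))) ∣ 2 ^ a * 3 ^ b := by
        rw [hHab]
        refine Subgroup.card_dvd_of_injective
          (((Q : Subgroup G).subtype.comp (centralizer ({oQ} : Set (Q : Subgroup G))).subtype).codRestrict H
            fun x => mem_centralizer_singleton_iff.mpr
              (congrArg Subtype.val (mem_centralizer_singleton_iff.mp x.2))) fun x y e => ?_
        exact Subtype.ext (Subtype.ext (congrArg (fun z : H => (z : G)) e))
      obtain ⟨j, -, hj⟩ := (Nat.dvd_prime_pow Nat.prime_three).mp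
        (hQc ▸ card_subgroup_dvd_card (centralizer ({oQ} : Set (Q : Subgroup G))))
      rw [hj] at hd ⊢
      have hjb : 3 ^ j ∣ 3 ^ b := (Nat.Coprime.pow j a (by norm_num : Nat.Coprime 3 2)).dvd_of_dvd_mul_left hd
      have := (Nat.pow_dvd_pow_iff_le_right (by norm_num : 1 < 3)).mp hjb
      calc 3 ^ j ≤ 3 ^ 2 := Nat.pow_le_pow_right (by norm_num) (by omega)
        _ = 9 := by norm_num
    have hoZ : oQ ∉ center (Q : Subgroup G) := fun e => by
      rw [centralizer_eq_top_iff_subset.mpr (by simpa using e), card_top, hQc] at hCQ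
      norm_num at hCQ
    haveI : Nontrivial (Q : Subgroup G) := ⟨⟨oQ, 1, fun e => hoZ (e ▸ one_mem _)⟩⟩
    haveI := Q.isPGroup'.center_nontrivial
    have hlt : center (Q : Subgroup G) < centralizer ({oQ} : Set (Q : Subgroup G)) :=
      lt_of_le_of_ne (center_le_centralizer _) fun e => hoZ (e ▸ mem_centralizer_singleton_iff.mpr rfl)
    obtain ⟨j, -, hj⟩ := (Nat.dvd_prime_pow Nat.prime_three).mp (hQc ▸ card_subgroup_dvd_card (center (Q : Subgroup G)))
    have hlt' := Set.ncard_lt_ncard (SetLike.coe_ssubset_coe.mpr hlt) (Set.toFinite _)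
    rw [← Nat.card_coe_set_eq, ← Nat.card_coe_set_eq, SetLike.coe_sort_coe, SetLike.coe_sort_coe, hj] at hlt'
    have hgt : 1 < Nat.card (center (Q : Subgroup G)) := Finite.one_lt_card
    rw [hj] at hgt
    have hj1 : j = 1 := by
      have hj2 : j < 2 := by
        by_contra hc
        have h9 : 3 ^ 2 ≤ 3 ^ j := Nat.pow_le_pow_right (by norm_num) (by omega)
        omega
      interval_cases j <;> simp_all
    refine no_degree_twelve hQc (by rw [hj, hj1, pow_one]) (hχ.comp (Q : Subgroup G).subtype)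
      (by simpa using hD) (fun g e => Subtype.ext (hfaith _ e)) fun k hk g => ?_
    show χ (((g ^ k : (Q : Subgroup G)) : G)) = χ (g : G)
    rw [SubmonoidClass.coe_pow]
    exact pow_invariant_of_rational (Q : Subgroup G) hrat hk g
  -- the centralizer is large
  have hsolv : Group.IsSolvable H :=
    Cfsg.Agent.S0144.result 2 3 a b Nat.prime_two Nat.prime_three hHab.symm
  haveI hn : (zpowers (⟨o, hoH⟩ : H)).Normal := ⟨fun z hz g => by
    obtain ⟨i, rfl⟩ := hz
    refine ⟨i, Subtype.ext ?_⟩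
    simp only [SubgroupClass.coe_zpow, coe_mul, coe_inv]
    have hg : Commute (g : G) (o : G) := mem_centralizer_singleton_iff.mp g.2
    rw [(hg.zpow_right i).eq, mul_inv_cancel_right]⟩
  set N := zpowers (⟨o, hoH⟩ : H) with hN
  have hNc : Nat.card N = 3 := by rw [hN, Nat.card_zpowers, ← orderOf_coe]; exact (orderOf_coe o).trans hoc
  let tH : H := ⟨t, hRH _ hRtc⟩
  -- the involution is not central modulo the core
  have hZnc : ¬ ∀ g : H, ⁅g, tH⁆ ∈ N := by
    intro hall
    have hle : H ≤ centralizer ({t} : Set G) := by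
      intro g hg
      obtain ⟨i, hi⟩ := hall ⟨g, hg⟩
      have hi' : ((o ^ i : Cen t) : G) = g * t * g⁻¹ * t⁻¹ := by
        have := congrArg Subtype.val hi
        simpa [commutatorElement_def, SubgroupClass.coe_zpow] using this
      have hgt : g * t * g⁻¹ = ((o ^ i * tc t : Cen t) : G) := by
        rw [coe_mul, hi', coe_tc, inv_mul_cancel_right]
      have hsq : (o ^ i * tc t) * (o ^ i * tc t) = 1 := Subtype.ext (by
        rw [coe_mul, ← hgt, show g * t * g⁻¹ * (g * t * g⁻¹) = g * (t * t) * g⁻¹ by group,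
          show t * t = 1 from congrArg Subtype.val h.tc_sq, mul_one, mul_inv_cancel, coe_one])
      have := h.eq_tc_of_two_pow (x := o ^ i * tc t) (j := 0)
        (by rw [map_mul, map_zpow, hπo, one_zpow, one_mul, h.pi_tc]) (by simpa [sq] using hsq)
      rw [this, coe_tc] at hgt
      exact mem_centralizer_singleton_iff.mpr (mul_inv_eq_iff_eq_mul.mp hgt)
    have hd : 3 ^ b ∣ 48 * 3 :=
      (dvd_mul_left (3 ^ b) (2 ^ a)).trans (hHab ▸ (Subgroup.card_dvd_of_le hle).trans (dvd_of_eq (by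
        rw [h.card_cen, hker])))
    have h27 : 3 ^ 3 ∣ 3 ^ b := Nat.pow_dvd_pow 3 hb3
    have := h27.trans hd
    norm_num at this
  -- the Sylow two-subgroup
  obtain ⟨S, hS⟩ := ((hR2.map (centralizer ({t} : Set G)).subtype).comap_subtype (K := H)).exists_le_sylow
  have hRS : ∀ r : R, (⟨r, hRH r r.2⟩ : H) ∈ (S : Subgroup H) := fun r => hS (mem_map_of_mem _ r.2)
  have hSR : ∀ z ∈ (S : Subgroup H), ∃ r ∈ R, (r : G) = z := by
    have hS8 : Nat.card (S : Subgroup H) = 8 := by
      obtain ⟨j, hj⟩ := IsPGroup.iff_card.mp S.isPGroup'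
      have h8 : 8 ≤ Nat.card (S : Subgroup H) := by
        rw [← hR8]
        exact Nat.card_le_card_of_injective (fun r : R => (⟨_, hRS r⟩ : (S : Subgroup H))) fun x y e =>
          Subtype.ext (Subtype.ext (congrArg (fun w : (S : Subgroup H) => ((w : H) : G)) e))
      have hd : Nat.card (S : Subgroup H) ∣ Nat.card H := card_subgroup_dvd_card _
      rw [hj] at h8 hd ⊢
      have hd' : 2 ^ j ∣ 2 ^ a :=
        (Nat.Coprime.pow j b (by norm_num : Nat.Coprime 2 3)).dvd_of_dvd_mul_right (hHab.symm ▸ hd)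
      have := (Nat.pow_dvd_pow_iff_le_right (by norm_num : 1 < 2)).mp hd'
      have hj3 : 3 ≤ j := (Nat.pow_le_pow_iff_right (by norm_num : 1 < 2)).mp (by simpa using h8)
      have hj4 : j ≠ 4 := by
        rintro rfl
        -- a full Sylow two-subgroup centralizing the core
        have htS : tH ∈ (S : Subgroup H) := hRS ⟨_, hRtc⟩
        haveI : Nontrivial (S : Subgroup H) := ⟨⟨⟨tH, htS⟩, 1, fun e =>
          h.tne (congrArg (fun w : (S : Subgroup H) => ((w : H) : G)) e)⟩⟩
        haveI := S.isPGroup'.center_nontrivial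
        obtain ⟨z, hz⟩ := exists_ne (1 : center ↥(S : Subgroup H))
        have hzc : ∀ w ∈ (S : Subgroup H), (w : G) * ((z : (S : Subgroup H)) : H) = ((z : (S : Subgroup H)) : H) * w :=
          fun w hw => congrArg (fun q : (S : Subgroup H) => ((q : H) : G)) (mem_center_iff.mp z.2 ⟨w, hw⟩)
        let zC : Cen t := ⟨((z : (S : Subgroup H)) : H), mem_centralizer_singleton_iff.mpr (hzc tH htS).symm⟩
        obtain ⟨i, hi⟩ := S.isPGroup' (z : (S : Subgroup H))
        have hzt : zC = tc t := by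
          have hz1 : π zC = 1 ∨ π zC = -1 := by
            refine (_root_.em (π zC = 1)).imp id fun hne => eq_neg_one_of_centralizes_quat (fun q hq => ?_) hne
            obtain ⟨r, hr, rfl⟩ := hRlift q hq
            rw [← map_mul, ← map_mul]
            exact congrArg π (Subtype.ext (hzc _ (hRS ⟨r, hr⟩)))
          refine (h.eq_one_or_tc hz1 (j := i) (Subtype.ext ?_)).resolve_left fun e => hz ?_
          · have e := congrArg (fun q : (S : Subgroup H) => ((q : H) : G)) hi
            simp only [SubmonoidClass.coe_pow, coe_one] at e ⊢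
            rw [pow_succ, pow_mul]
            show ((((z : (S : Subgroup H)) : H) : G) ^ 2 ^ i) ^ 2 = 1
            rw [e, one_pow]
          · exact Subtype.ext (Subtype.ext (Subtype.ext (by simpa [zC] using congrArg Subtype.val e)))
        have hSC : ∀ w ∈ (S : Subgroup H), (w : G) * t = t * w := fun w hw => by
          have e := hzc w hw
          rwa [show (((z : (S : Subgroup H)) : H) : G) = t from congrArg Subtype.val hzt] at e
        let φ : (S : Subgroup H) →* Cen t :=
          ((H.subtype.comp (S : Subgroup H).subtype).codRestrict _ fun w =>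
            mem_centralizer_singleton_iff.mpr (hSC w w.2))
        have hφZ : φ.range ≤ Z := by
          rintro _ ⟨w, rfl⟩
          exact mem_centralizer_singleton_iff.mpr (Subtype.ext (mem_centralizer_singleton_iff.mp (w : H).2))
        have hinjφ : Function.Injective φ := fun x y e =>
          Subtype.ext (Subtype.ext (congrArg (fun q : Cen t => (q : G)) e))
        have h16 : 16 ∣ Nat.card Z := by
          refine dvd_trans (dvd_of_eq ?_) (Subgroup.card_dvd_of_le hφZ)
          rw [← Nat.card_congr (MonoidHom.ofInjective hinjφ).toEquiv, hj]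
          norm_num
        have hs : s₀ ∉ Z := fun e => by
          have e2 := hs₀ o hπo
          rw [mem_centralizer_singleton_iff.mp e, mul_inv_cancel_right] at e2
          exact ho1 (h.eq_one_of_two_pow hπo (j := 1) (by rw [pow_one, sq]; nth_rw 1 [e2]; exact inv_mul_cancel o))
        have hidx : Z.index ≠ 1 := fun e => hs (index_eq_one.mp e ▸ mem_top _)
        have hmul := card_mul_index Z
        rw [h.card_cen, hker] at hmul
        obtain ⟨q, hq⟩ := h16
        have hidx2 : Z.index = 2 := by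
          rw [index_eq_two_iff]
          refine ⟨s₀, fun c => ?_⟩
          have e1 : ∀ c, c ∈ Z ↔ c * o * c⁻¹ = o := fun c =>
            ⟨fun e => by rw [mem_centralizer_singleton_iff.mp e, mul_inv_cancel_right],
              fun e => mem_centralizer_singleton_iff.mpr (mul_inv_eq_iff_eq_mul.mp e)⟩
          have hne : o ≠ o⁻¹ := fun e2 => ho1 (h.eq_one_of_two_pow hπo (j := 1) (by
            rw [pow_one, sq]; nth_rw 1 [e2]; exact inv_mul_cancel o))
          rw [e1, e1, show c * s₀ * o * (c * s₀)⁻¹ = c * (s₀ * o * s₀⁻¹) * c⁻¹ by group, hs₀ o hπo,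
            show c * o⁻¹ * c⁻¹ = (c * o * c⁻¹)⁻¹ by group, xor_def]
          rcases hzo c with e | e <;> rw [e]
          · exact Or.inr ⟨rfl, fun e3 => hne e3.symm⟩
          · exact Or.inl ⟨inv_inv o, fun e3 => hne e3.symm⟩
        rw [hidx2, hq] at hmul
        omega
      rw [show j = 3 by omega]
      norm_num
    intro z hz
    have hbij : Function.Bijective (fun r : R => (⟨_, hRS r⟩ : (S : Subgroup H))) := by
      rw [Nat.bijective_iff_injective_and_card, hR8, hS8]
      exact ⟨fun x y e => Subtype.ext (Subtype.ext (congrArg (fun w : (S : Subgroup H) => ((w : H) : G)) e)), rfl⟩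
    obtain ⟨r, hr⟩ := hbij.2 ⟨z, hz⟩
    exact ⟨r, r.2, congrArg (fun w : (S : Subgroup H) => ((w : H) : G)) hr⟩
  -- an abelian normal subgroup modulo the core
  haveI : Group.IsSolvable (H ⧸ N) := Group.isSolvable_of_surjective (QuotientGroup.mk'_surjective N)
  have hne : (⊤ : Subgroup (H ⧸ N)) ≠ ⊥ := by
    intro e
    refine hZnc fun g => (QuotientGroup.eq_one_iff _).mp ?_
    exact mem_bot.mp (e ▸ mem_top ((⁅g, tH⁆ : H) : H ⧸ N))
  obtain ⟨q, Mb, hq, hMn, hMne, hMc, hMq⟩ :=
    Cfsg.Lib.Small.SecRankFour.exists_abelian_normal (inferInstance : (⊤ : Subgroup (H ⧸ N)).Normal) hne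
      inferInstance
  set Kh := Mb.comap (QuotientGroup.mk' N) with hKh
  haveI : Kh.Normal := hMn.comap _
  have hq23 : q = 2 ∨ q = 3 := by
    haveI := Fact.mk hq
    obtain ⟨j, hj⟩ := IsPGroup.iff_card.mp hMq
    have hj0 : 0 < j := by
      rcases Nat.eq_zero_or_pos j with rfl | e
      · exact absurd (card_eq_one.mp (by rw [hj, pow_zero])) hMne
      · exact e
    have hd : q ∣ 2 ^ a * 3 ^ b := hHab.symm ▸ ((dvd_pow_self q hj0.ne').trans
      (hj ▸ card_subgroup_dvd_card Mb)).trans (card_quotient_dvd_card N)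
    rcases hq.dvd_mul.mp hd with e | e
    · exact Or.inl ((Nat.prime_dvd_prime_iff_eq hq Nat.prime_two).mp (hq.dvd_of_dvd_pow e))
    · exact Or.inr ((Nat.prime_dvd_prime_iff_eq hq Nat.prime_three).mp (hq.dvd_of_dvd_pow e))
  rcases hq23 with rfl | rfl
  · -- a two-group: the involution would be central
    let S' := S.mapSurjective (QuotientGroup.mk'_surjective N)
    have hMS : Mb ≤ (S' : Subgroup (H ⧸ N)) := by
      obtain ⟨T, hT⟩ := hMq.exists_le_sylow
      obtain ⟨g, hg⟩ := MulAction.exists_smul_eq (H ⧸ N) T S'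
      intro x hx
      rw [← hg]
      exact ⟨_, hT (hMn.conj_mem x hx g⁻¹), show g * (g⁻¹ * x * g⁻¹⁻¹) * g⁻¹ = x by group⟩
    have huniq : ∀ x ∈ Mb, orderOf x = 2 → x = (tH : H ⧸ N) := by
      intro x hx hxo
      obtain ⟨z, hz, rfl⟩ := hMS hx
      obtain ⟨r, hr, hre⟩ := hSR z hz
      have hzz : (z * z : H) ∈ N := (QuotientGroup.eq_one_iff _).mp (by
        rw [QuotientGroup.mk_mul, ← sq, ← hxo]; exact pow_orderOf_eq_one _)
      obtain ⟨i, hi⟩ := hzz
      have hri : r * r = o ^ i := Subtype.ext (by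
        have := congrArg Subtype.val hi
        simpa [← hre, SubgroupClass.coe_zpow] using this.symm)
      have hr2 : π r * π r = 1 := by rw [← map_mul, hri, map_zpow, hπo, one_zpow]
      obtain ⟨n, hn⟩ := hR2 ⟨r, hr⟩
      have hrn : r ^ 2 ^ (n + 1) = 1 := by
        rw [pow_succ, pow_mul, show r ^ 2 ^ n = 1 from congrArg Subtype.val hn, one_pow]
      have hr1 : π r ≠ 1 := fun e => by
        have h1 := h.eq_one_of_two_pow e hrn
        have : z = 1 := Subtype.ext (by rw [← hre, h1]; rfl)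
        rw [this, map_one, orderOf_one] at hxo
        omega
      have hrt := h.eq_tc_of_two_pow (quat_invol _ (hRquat r hr) hr2 hr1) hrn
      show ((z : H) : H ⧸ N) = _
      congr 1
      exact Subtype.ext (by rw [← hre, hrt]; rfl)
    obtain ⟨x, hx⟩ := exists_prime_orderOf_dvd_card' (G := Mb) 2 (by
      obtain ⟨j, hj⟩ := IsPGroup.iff_card.mp hMq
      rcases Nat.eq_zero_or_pos j with rfl | e
      · exact absurd (card_eq_one.mp (by rw [hj, pow_zero])) hMne
      · rw [hj]; exact dvd_pow_self 2 e.ne')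
    have hxo : orderOf (x : H ⧸ N) = 2 := by rw [orderOf_coe, hx]
    have htM : (tH : H ⧸ N) ∈ Mb := huniq _ x.2 hxo ▸ x.2
    have hto : orderOf (tH : H ⧸ N) = 2 := huniq _ x.2 hxo ▸ hxo
    refine hZnc fun g => (QuotientGroup.eq_one_iff _).mp ?_
    have := huniq _ (hMn.conj_mem _ htM (g : H ⧸ N))
      (by rw [← MulAut.conj_apply, MulEquiv.orderOf_eq, hto])
    rw [← QuotientGroup.mk'_apply, map_commutatorElement, commutatorElement_def]
    show (g : H ⧸ N) * tH * (g : H ⧸ N)⁻¹ * (tH : H ⧸ N)⁻¹ = 1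
    rw [this, mul_inv_cancel]
  · -- a three-group normalized by the quaternion group
    set K := Kh.map H.subtype with hK
    have hKp : IsPGroup 3 K :=
      (hMq.comap_of_ker_isPGroup _ (by rw [QuotientGroup.ker_mk']; exact IsPGroup.of_card (n := 1) (by rw [hNc, pow_one]))).map _
    have hoK : (o : G) ∈ K := ⟨⟨o, hoH⟩, by
      show ((⟨o, hoH⟩ : H) : H ⧸ N) ∈ Mb
      rw [(QuotientGroup.eq_one_iff _).mpr (mem_zpowers _)]; exact one_mem _, rfl⟩
    have hKH : ∀ x ∈ K, x * (o : G) = (o : G) * x := by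
      rintro _ ⟨y, -, rfl⟩; exact mem_centralizer_singleton_iff.mp y.2
    have hKcomm : ∀ x ∈ K, ∀ y ∈ K, ⁅x, y⁆ ∈ zpowers (o : G) := by
      rintro _ ⟨x, hx, rfl⟩ _ ⟨y, hy, rfl⟩
      have hxy : ⁅x, y⁆ ∈ N := (QuotientGroup.eq_one_iff _).mp (by
        rw [← QuotientGroup.mk'_apply, map_commutatorElement, commutatorElement_eq_one_iff_commute]
        exact congrArg Subtype.val (mul_comm' (⟨_, hx⟩ : Mb) ⟨_, hy⟩))
      obtain ⟨i, hi⟩ := hxy
      exact ⟨i, by rw [← map_commutatorElement, ← hi]; rfl⟩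
    have hKR : ∀ r ∈ R, ∀ x ∈ K, (r : G) * x * (r : G)⁻¹ ∈ K := by
      rintro r hr _ ⟨y, hy, rfl⟩
      exact ⟨_, (inferInstance : Kh.Normal).conj_mem y hy ⟨r, hRH r hr⟩, rfl⟩
    have hKt := h.commute_of_three hχ hD hfaith hoc hχo' hχo'' hR2 hR8 hRo hRquat hKp hoK hKH hKcomm hKR hRtc
    -- the group lies in the centralizer, so it is the core
    apply hMne
    rw [eq_bot_iff]
    intro mq hmq
    obtain ⟨y, rfl⟩ := QuotientGroup.mk_surjective mq
    have hyK : ∀ z : H, (z : H ⧸ N) ∈ Mb → ∃ c : Cen t, (c : G) = z ∧ ∃ n, c ^ 3 ^ n = 1 := fun z hz => by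
      refine ⟨⟨z, mem_centralizer_singleton_iff.mpr (hKt _ (mem_map_of_mem H.subtype hz))⟩, rfl, ?_⟩
      obtain ⟨n, hn⟩ := hKp ⟨_, mem_map_of_mem H.subtype hz⟩
      exact ⟨n, Subtype.ext (by simpa using congrArg Subtype.val hn)⟩
    obtain ⟨yC, hyC, nY, hnY⟩ := hyK y hmq
    have hcomm : ∀ q ∈ quat, q * π yC = π yC * q := by
      intro q hq
      obtain ⟨r, hr, rfl⟩ := hRlift q hq
      obtain ⟨c, hc, n, hn⟩ := hyK (⟨r, hRH r hr⟩ * y * ⟨r, hRH r hr⟩⁻¹ * y⁻¹) (by
        rw [QuotientGroup.mk_mul, QuotientGroup.mk_mul, QuotientGroup.mk_mul, QuotientGroup.mk_inv,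
          QuotientGroup.mk_inv]
        exact mul_mem (hMn.conj_mem _ hmq _) (inv_mem hmq))
      have hce : c = r * yC * r⁻¹ * yC⁻¹ := Subtype.ext (by simp [hc, hyC])
      have hcq : π c ∈ quat := by
        rw [hce, map_mul, map_mul, map_mul, map_inv, map_inv, mul_assoc, mul_assoc, ← mul_assoc (π yC)]
        exact mul_mem hq (quat_normal.conj_mem _ (inv_mem hq) _)
      have hpc : π c = 1 := by
        rw [← orderOf_eq_one_iff]
        refine Nat.eq_one_of_dvd_coprimes (Nat.Coprime.pow n 3 (by norm_num : Nat.Coprime 3 2))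
          (orderOf_dvd_of_pow_eq_one (by rw [← map_pow, hn, map_one])) ?_
        have := orderOf_dvd_natCard (⟨π c, hcq⟩ : quat)
        rwa [orderOf_mk, card_quat] at this
      rw [hce, map_mul, map_mul, map_mul, map_inv, map_inv, mul_inv_eq_one, mul_inv_eq_iff_eq_mul] at hpc
      exact hpc
    have h1 : π yC = 1 := by
      by_contra hne1
      have := eq_neg_one_of_centralizes_quat hcomm hne1
      have hp := congrArg π hnY
      rw [map_pow, this, map_one, Odd.neg_one_pow (Odd.pow (by decide : Odd 3))] at hp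
      exact neg_one_ne_one hp
    refine mem_bot.mpr ((QuotientGroup.eq_one_iff _).mpr ?_)
    obtain ⟨i, hi⟩ : (⟨yC, π.mem_ker.mpr h1⟩ : π.ker) ∈ zpowers o' :=
      (eq_top_of_card_eq (zpowers o') (by rw [Nat.card_zpowers, ho', hker])) ▸ mem_top _
    exact ⟨i, Subtype.ext (by
      rw [← hyC, show yC = o ^ i from (congrArg Subtype.val hi).symm, SubgroupClass.coe_zpow,
        SubgroupClass.coe_zpow])⟩

end Hyp

end Cfsg.Lib.Small.GL23Core
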