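import Cfsg.Agent.Lib.Char.RationalSylowBound
import Mathlib.GroupTheory.SpecificGroups.Cyclic

/-!
# A prime with a faithful rational character of degree one less

The centralizer of an element of that prime order has no other odd prime divisor, and the index of
the normalizer gives a congruence for the group order.
-/

set_option autoImplicit false
set_option linter.style.haveILetI false
set_option linter.unusedSectionVars false
set_option maxHeartbeats 400000

namespace Cfsg.Lib.Small.GL23Core

open Subgroup Cfsg Cfsg.Lib.Char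
open scoped ComplexConjugate IntermediateField

universe u

noncomputable local instance (priority := high) fintypeSubgroupGL23Prime {A : Type u}
    [Group A] [Fintype A] (H : Subgroup A) : Fintype H := Fintype.ofFinite H

variable {G : Type u} [Group G] [Fintype G]

/-- A faithful rational character of degree `q - 1` allows no element of order `q * q'`. -/
theorem no_product_order {q r : ℕ} (hq : q.Prime) (hr : r.Prime) (hqr : q ≠ r) (hr2 : r ≠ 2)
    {χ : G → ℂ} (hχ : IsCharacter G χ) (hrat : ∀ k : ℕ, k.Coprime (Nat.card G) → ∀ x, χ (x ^ k) = χ x)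
    (hfaith : ∀ g, χ g = χ 1 → g = 1) (hD : χ 1 = ((q - 1 : ℕ) : ℂ)) (z : G) :
    orderOf z ≠ q * r := by
  classical
  intro hz
  set Z := zpowers z with hZ
  have hZc : Nat.card Z = q * r := by rw [Nat.card_zpowers, hz]
  let g : Z := ⟨z, mem_zpowers z⟩
  have hc : IsCharacter Z fun x : Z => χ (x : G) := hχ.comp Z.subtype
  choose d hd0 hd using fun η : IrrCharacter Z => η.2.exists_degree
  have hlin : ∀ η : IrrCharacter Z, d η = 1 := fun η => by
    have e := degree_eq_one_of_comm (G := Z) (fun a b => mul_comm' a b) η.2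
    rw [hd] at e
    exact_mod_cast e
  choose l hl using fun η : IrrCharacter Z => exists_hom_of_degree_one η.2.isCharacter
    (by rw [hd, hlin η, Nat.cast_one])
  have hdeg : ∑ η, multIn hc η = q - 1 := by
    have e := apply_eq_sum_multIn hc 1
    simp only [coe_one, hD, hd, hlin, Nat.cast_one, mul_one] at e
    exact_mod_cast e.symm
  -- Galois invariance
  have hpow : ∀ k : ℕ, k.Coprime (Nat.card Z) → ∀ x : Z, χ (((x ^ k : Z)) : G) = χ (x : G) := by
    intro k hk x
    haveI : NeZero (Nat.card G) := ⟨Nat.card_pos.ne'⟩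
    obtain ⟨u, hu⟩ := ZMod.unitsMap_surjective (card_subgroup_dvd_card Z) (ZMod.unitOfCoprime k hk)
    set k' := (u : ZMod (Nat.card G)).val with hk'
    have hk2 : k' ≡ k [MOD Nat.card Z] := by
      rw [← ZMod.natCast_eq_natCast_iff]
      have e := congrArg (fun w : (ZMod (Nat.card Z))ˣ => (w : ZMod (Nat.card Z))) hu
      simp only [ZMod.unitsMap_val, ZMod.coe_unitOfCoprime] at e
      rw [hk', ← e, ZMod.natCast_val]
    rw [pow_eq_pow_mod k (n := Nat.card Z) pow_card_eq_one', show k % Nat.card Z = k' % Nat.card Z from hk2.symm]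
    rw [← pow_eq_pow_mod k' (n := Nat.card Z) pow_card_eq_one', SubmonoidClass.coe_pow,
      hrat k' (ZMod.val_coe_unit_coprime u)]
  have hmult : ∀ (η : IrrCharacter Z) (k : ℕ) (hk : k.Coprime (Nat.card Z)),
      multIn hc (irrPow hk η) = multIn hc η := by
    intro η k hk
    have e := classInner_comp_pow hk (fun x : Z => χ (x : G)) (η : Z → ℂ)
    rw [show (fun x : Z => χ ((x ^ k : Z) : G)) = fun x : Z => χ (x : G) from funext (hpow k hk),
      classInner_eq_multIn hc η] at e
    exact_mod_cast (classInner_eq_multIn hc (irrPow hk η)).symm.trans e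
  -- a constituent with a value of given order has many twists
  have horb : ∀ (η : IrrCharacter Z) (n : ℕ), 0 < n → IsPrimitiveRoot ((η : Z → ℂ) g) n →
      multIn hc η ≠ 0 → n.totient ≤ ((Finset.univ : Finset (IrrCharacter Z)).filter fun φ =>
        multIn hc φ ≠ 0 ∧ orderOf (l φ g : ℂ) = n).card := by
    intro η n hn hζ h0
    have hK := finrank_le_card_twist η ((Finset.univ : Finset (IrrCharacter Z)).filter fun φ =>
        multIn hc φ ≠ 0 ∧ orderOf (l φ g : ℂ) = n) (by
      rintro φ ⟨k, hk, rfl⟩
      refine Finset.mem_filter.mpr ⟨Finset.mem_univ _, by rw [hmult]; exact h0, ?_⟩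
      rw [← congrFun (hl _) g, irrPow_apply, congrFun (hl η), map_pow, Units.val_pow_eq_pow_val,
        ← congrFun (hl η) g]
      rw [Nat.Coprime.orderOf_pow, ← hζ.eq_orderOf]
      rw [← hζ.eq_orderOf]
      refine (hk.coprime_dvd_right ?_).symm
      rw [hζ.eq_orderOf, congrFun (hl η) g]
      refine (orderOf_map_dvd ((Units.coeHom ℂ).comp (l η)) g).trans ?_
      exact orderOf_dvd_natCard g)
    refine le_trans ?_ hK
    rw [← finrank_adjoin_rootOfUnity hn hζ]
    haveI := finiteDimensional_cycField (Nat.card Z)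
    haveI : NeZero (Nat.card Z) := ⟨Nat.card_pos.ne'⟩
    have hKL : IntermediateField.adjoin ℚ (Set.range (η : Z → ℂ)) ≤ cycField (Nat.card Z) :=
      IntermediateField.adjoin_le_iff.2 (by
        rintro _ ⟨x, rfl⟩; exact char_mem_cycField dvd_rfl η.2.isCharacter x)
    haveI : FiniteDimensional ℚ (IntermediateField.adjoin ℚ (Set.range (η : Z → ℂ))) :=
      FiniteDimensional.of_injective (IntermediateField.inclusion hKL).toLinearMap
        (IntermediateField.inclusion_injective hKL)
    have hle : ℚ⟮(η : Z → ℂ) g⟯ ≤ IntermediateField.adjoin ℚ (Set.range (η : Z → ℂ)) :=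
      IntermediateField.adjoin_simple_le_iff.2 (IntermediateField.subset_adjoin _ _ ⟨g, rfl⟩)
    exact Nat.le_of_dvd Module.finrank_pos (IntermediateField.finrank_dvd_of_le_right hle)
  have hcount : ∀ n : ℕ, ((Finset.univ : Finset (IrrCharacter Z)).filter fun φ =>
      multIn hc φ ≠ 0 ∧ orderOf (l φ g : ℂ) = n).card ≤
      ∑ φ ∈ (Finset.univ : Finset (IrrCharacter Z)).filter (fun φ => orderOf (l φ g : ℂ) = n), multIn hc φ := by
    intro n
    rw [Finset.card_eq_sum_ones]
    refine le_trans (Finset.sum_le_sum fun φ hφ => Nat.pos_of_ne_zero (Finset.mem_filter.mp hφ).2.1)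
      (Finset.sum_le_sum_of_subset fun φ hφ => ?_)
    exact Finset.mem_filter.mpr ⟨Finset.mem_univ _, (Finset.mem_filter.mp hφ).2.2⟩
  have hord : ∀ φ : IrrCharacter Z, orderOf (l φ g : ℂ) ∣ q * r := fun φ => by
    refine (orderOf_map_dvd ((Units.coeHom ℂ).comp (l φ)) g).trans ?_
    rw [← orderOf_coe g, hz]
  -- a constituent nontrivial on a power
  have hex : ∀ n : ℕ, z ^ n ≠ 1 → ∃ η : IrrCharacter Z, multIn hc η ≠ 0 ∧ ¬ orderOf (l η g : ℂ) ∣ n := by
    intro n hn
    by_contra hne
    push Not at hne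
    refine hn (hfaith _ ?_)
    have e : χ ((g ^ n : Z) : G) = χ ((1 : Z) : G) := by
      rw [apply_eq_sum_multIn hc (g ^ n), apply_eq_sum_multIn hc 1]
      refine Finset.sum_congr rfl fun φ _ => ?_
      by_cases h0 : multIn hc φ = 0
      · rw [h0]; simp
      · rw [congrFun (hl φ), congrFun (hl φ), map_pow, Units.val_pow_eq_pow_val, map_one, Units.val_one,
          orderOf_dvd_iff_pow_eq_one.mp (hne φ h0)]
    simpa using e
  have hzq : z ^ q ≠ 1 := fun e => by
    have := Nat.le_of_dvd hq.pos (hz ▸ orderOf_dvd_of_pow_eq_one e)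
    have := (Nat.lt_mul_iff_one_lt_right hq.pos).mpr hr.one_lt
    omega
  have hzr : z ^ r ≠ 1 := fun e => by
    have := Nat.le_of_dvd hr.pos (hz ▸ orderOf_dvd_of_pow_eq_one e)
    have := (Nat.lt_mul_iff_one_lt_left hr.pos).mpr hq.one_lt
    omega
  have hqr' : Nat.Coprime q r := (Nat.coprime_primes hq hr).mpr hqr
  have hbig : ∀ φ : IrrCharacter Z, multIn hc φ ≠ 0 → orderOf (l φ g : ℂ) ≠ q * r := by
    intro φ h0 e
    have hp := horb φ (q * r) (Nat.mul_pos hq.pos hr.pos)
      (by rw [← e, congrFun (hl φ) g]; exact IsPrimitiveRoot.orderOf _) h0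
    rw [Nat.totient_mul hqr', Nat.totient_prime hq, Nat.totient_prime hr] at hp
    have h1 := le_trans hp (le_trans (hcount _) (hdeg ▸ Finset.sum_le_sum_of_subset (Finset.filter_subset _ _)))
    have : 3 ≤ r := by have := hr.two_le; omega
    have hq1 : 1 ≤ q - 1 := by have := hq.two_le; omega
    have : (q - 1) * 2 ≤ (q - 1) * (r - 1) := Nat.mul_le_mul_left _ (by omega)
    omega
  have hdiv : ∀ d : ℕ, d ∣ q * r → d = 1 ∨ d = q ∨ d = r ∨ d = q * r := by
    intro d hd
    obtain ⟨a, b, ha, hb, rfl⟩ := (Nat.dvd_mul).mp hd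
    rcases (Nat.dvd_prime hq).mp ha with rfl | rfl <;> rcases (Nat.dvd_prime hr).mp hb with rfl | rfl <;> simp
  obtain ⟨η, h0, hη⟩ := hex r hzr
  have hηq : orderOf (l η g : ℂ) = q := by
    rcases hdiv _ (hord η) with e | e | e | e
    · exact absurd (e ▸ one_dvd r) hη
    · exact e
    · exact absurd (e ▸ dvd_rfl) hη
    · exact absurd e (hbig η h0)
  obtain ⟨φ, hφ0, hφ⟩ := hex q hzq
  have hp := le_trans (horb η q hq.pos (by
    rw [← hηq, congrFun (hl η) g]; exact IsPrimitiveRoot.orderOf _) h0) (hcount q)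
  rw [Nat.totient_prime hq] at hp
  have hnot : φ ∉ (Finset.univ : Finset (IrrCharacter Z)).filter (fun φ => orderOf (l φ g : ℂ) = q) :=
    fun e => hφ ((Finset.mem_filter.mp e).2 ▸ dvd_rfl)
  have h1 := Finset.sum_le_sum_of_subset (f := multIn hc) (Finset.subset_univ
    (insert φ ((Finset.univ : Finset (IrrCharacter Z)).filter (fun φ => orderOf (l φ g : ℂ) = q))))
  rw [Finset.sum_insert hnot, hdeg] at h1
  have := Nat.pos_of_ne_zero hφ0
  omega

/-- The congruence for the index of the normalizer. -/
theorem exists_congruence {q : ℕ} [hq : Fact q.Prime] {N : ℕ} (hN : Nat.card G = q * N) (hqN : ¬ q ∣ N)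
    (hcent : ∀ x : G, orderOf x = q → centralizer ({x} : Set G) = zpowers x) :
    ∃ e : ℕ, e ∣ q - 1 ∧ N % q = e % q := by
  classical
  obtain ⟨P⟩ : Nonempty (Sylow q G) := inferInstance
  have hP : Nat.card (P : Subgroup G) = q := by
    rw [P.card_eq_multiplicity, hN, Nat.factorization_mul hq.out.ne_zero (by rintro rfl; exact hqN (dvd_zero q)),
      Finsupp.add_apply, hq.out.factorization_self, Nat.factorization_eq_zero_of_not_dvd hqN, pow_one]
  obtain ⟨x, hx⟩ := exists_prime_orderOf_dvd_card' (G := (P : Subgroup G)) q (dvd_of_eq hP.symm)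
  have hxP : zpowers (x : G) = (P : Subgroup G) :=
    eq_of_le_of_card_ge (zpowers_le.mpr x.2) (by rw [Nat.card_zpowers, orderOf_coe, hx, hP])
  haveI : IsCyclic (P : Subgroup G) := isCyclic_of_prime_card hP
  set f := (P : Subgroup G).normalizerMonoidHom with hf
  have hker : Nat.card f.ker = q := by
    rw [hf, Subgroup.normalizerMonoidHom_ker]
    have hCP : centralizer ((P : Subgroup G) : Set G) = (P : Subgroup G) := by
      refine le_antisymm ?_ fun y hy => ?_
      · intro y hy
        rw [← hxP, ← hcent _ (by rw [orderOf_coe]; exact hx)]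
        exact mem_centralizer_singleton_iff.mpr (mem_centralizer_iff.mp hy _ x.2).symm
      · refine mem_centralizer_iff.mpr fun w hw => ?_
        exact congrArg Subtype.val (mul_comm' (⟨w, hw⟩ : (P : Subgroup G)) ⟨y, hy⟩)
    rw [Nat.card_congr (subgroupOfEquivOfLe (centralizer_le_normalizer _)).toEquiv, hCP, hP]
  refine ⟨f.ker.index, ?_, ?_⟩
  · rw [index_ker]
    refine (card_subgroup_dvd_card f.range).trans ?_
    rw [IsCyclic.card_mulAut, hP, Nat.totient_prime hq.out]
  · have h1 := card_mul_index f.ker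
    rw [hker] at h1
    have h2 := card_mul_index (normalizer ((P : Subgroup G) : Set G))
    rw [← h1, hN, mul_assoc] at h2
    have h3 : f.ker.index * (normalizer ((P : Subgroup G) : Set G)).index = N :=
      mul_left_cancel₀ hq.out.ne_zero h2
    have h4 := card_sylow_modEq_one q G
    rw [P.card_eq_index_normalizer] at h4
    rw [← h3]
    have h5 : f.ker.index * (normalizer ((P : Subgroup G) : Set G)).index ≡ f.ker.index [MOD q] := by
      simpa using (Nat.ModEq.refl f.ker.index).mul h4
    exact h5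

end Cfsg.Lib.Small.GL23Core
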