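import Cfsg.Agent.Lib.Small.GL23Core.Setup
import Cfsg.Agent.Lib.Block.OneClassPairs
import Cfsg.Agent.Lib.Block.SubsectionApps
import Cfsg.Agent.Lib.Block.DihedralColumns
import Cfsg.Agent.Lib.Block.RegInt
import Cfsg.Agent.Lib.Char.SingularVanishing

/-!
# The averaged values only see the principal two-block
-/

set_option autoImplicit false
set_option linter.style.haveILetI false
set_option linter.unusedSectionVars false
set_option linter.unusedDecidableInType false
set_option maxRecDepth 4000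
set_option maxHeartbeats 400000

namespace Cfsg.Lib.Small.GL23Core

open Subgroup Cfsg Cfsg.Lib.Char Cfsg.Lib.Small.CentralizerGL23
open Cfsg.Lib.Block
open scoped ComplexConjugate

universe u

noncomputable local instance (priority := high) fintypeSubgroupGL23Average {A : Type u}
    [Group A] [Fintype A] (H : Subgroup A) : Fintype H := Fintype.ofFinite H

/-- The power of the element of order eight. -/
abbrev rho (j : ℕ) : GL23 := repU 6 ^ j

theorem rho_eight : rho 8 = 1 := by decide +kernel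

theorem cent_rho : ∀ j ∈ [1, 2, 5], ∀ z : GL23, z * rho j = rho j * z → ∃ i : Fin 8, z = rho i := by
  decide +kernel

theorem card_cent_rho : ∀ j ∈ [1, 2, 5],
    (Finset.univ.filter fun z : GL23 => z * rho j = rho j * z).card = 8 := by decide +kernel

theorem rho_injective : Function.Injective fun i : Fin 8 => rho i := by decide +kernel

theorem exc_rho : ∀ j ∈ [1, 2, 5], Exc (rho j) := by decide +kernel

theorem cls_rho : ∀ k ∈ ([4, 6, 7] : List (Fin 8)), ∃ j ∈ [1, 2, 5], cls (rho j : Mat) = k := by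
  decide +kernel

theorem neg_rep_two : -repU 2 = repU 3 ∧ repU 2 * repU 2 * repU 2 = 1 := by decide +kernel

/-- `GL(2, 3)` has only the principal two-block. -/
theorem gl23_principal {M : Ideal AlgInt} (hM : IsPModular 2 M) [Fact (Nat.Prime 2)]
    (χ : IrrCharacter GL23) : χ ∈ principalBlock M GL23 := by
  rw [mem_principal_iff_regSum hM]
  have hs : SameBlock M (χ : GL23 → ℂ) ((trivChar GL23 : IrrCharacter GL23) : GL23 → ℂ) := by
    refine mem_principal_of_centralizer_le hM (Q := quat)
      (IsPGroup.of_card (n := 3) (by rw [card_quat]; rfl)) (fun x hx => ?_) χ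
    by_cases h1 : x = 1
    · exact h1 ▸ one_mem _
    · rw [eq_neg_one_of_centralizes_quat (fun a ha => mem_centralizer_iff.mp hx a ha) h1]
      exact Or.inr (Or.inl (by decide +kernel))
  have hmem : χ ∈ principalBlock M GL23 := fun g => by
    have e := hs g
    rw [trivChar_coe] at e
    have e' := memLocalIdeal_sub hM (memLocalIdeal_zero hM) e
    rwa [zero_sub, neg_sub] at e'
  exact (mem_principal_iff_regSum hM χ).mp hmem

/-- Coset sums of class functions only see the characters trivial on the normal subgroup. -/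
theorem sum_coset_eq {H : Type u} [Group H] [Fintype H] (N : Subgroup H) [N.Normal]
    {M : Ideal AlgInt} (hP : ∀ η : IrrCharacter H,
      η ∈ principalBlock M H ↔ ∀ n ∈ N, (η : H → ℂ) n = (η : H → ℂ) 1)
    {θ : H → ℂ} (hθ : IsClassFunction H θ) (y : H) :
    ∑ n : N, θ (y * n) = (Nat.card N : ℂ) * blockPart (principalBlock M H) θ y := by
  classical
  rw [blockPart, finsum_mem_eq_toFinset_sum]
  have e : ∀ n : N, θ (y * n) =
      ∑ η : IrrCharacter H, classInner θ (η : H → ℂ) * (η : H → ℂ) (y * n) := fun n => by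
    have := congrFun (eq_sum_classInner hθ) (y * n)
    simpa [Finset.sum_apply] using this
  simp only [e]
  rw [Finset.sum_comm]
  simp only [← Finset.mul_sum]
  have hz : ∀ η ∈ (Finset.univ : Finset (IrrCharacter H)), η ∉ (principalBlock M H).toFinset →
      classInner θ (η : H → ℂ) * ∑ n : N, (η : H → ℂ) (y * (n : H)) = 0 := fun η _ hη => by
    rw [Set.mem_toFinset, hP] at hη
    push Not at hη
    rw [SingularVanishing.sum_coset_eq_zero N η hη y, mul_zero]
  rw [← Finset.sum_subset (Finset.subset_univ (principalBlock M H).toFinset) hz, Finset.mul_sum]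
  refine Finset.sum_congr rfl fun η hη => ?_
  rw [Finset.sum_congr rfl fun (n : N) _ => apply_mul_of_trivial ((hP η).mp (Set.mem_toFinset.mp hη)) n.2 y,
    Finset.sum_const, Finset.card_univ, nsmul_eq_mul, Nat.card_eq_fintype_card]
  rw [show classInner θ (η : H → ℂ) = @classInner H _ (Fintype.ofFinite H) θ (η : H → ℂ) from by
    simp only [classInner]; congr 1; exact Finset.sum_congr (by ext; simp) fun _ _ => rfl]
  ring

variable {G : Type u} [Group G] [Fintype G] {t : G} {π : Cen t →* GL23}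

namespace Hyp

variable (h : Hyp t π) {M : Ideal AlgInt} (hM : IsPModular 2 M) [Fact (Nat.Prime 2)]
include h

theorem ker_odd' : ¬ 2 ∣ Nat.card π.ker := fun d =>
  Nat.not_even_iff_odd.mpr h.odd (even_iff_two_dvd.mpr d)

theorem regular_iff (x : Cen t) : IsPRegular 2 (π x) ↔ IsPRegular 2 x := by
  refine ⟨fun e d => ?_, fun e d => e (d.trans (orderOf_map_dvd π x))⟩
  have h1 : x ^ (orderOf (π x) * Nat.card π.ker) = 1 := by
    rw [pow_mul]
    exact orderOf_dvd_iff_pow_eq_one.mp (π.ker.orderOf_dvd_natCard (π.mem_ker.mpr (by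
      rw [map_pow, pow_orderOf_eq_one])))
  rcases Nat.prime_two.dvd_mul.mp (d.trans (orderOf_dvd_of_pow_eq_one h1)) with d' | d'
  · exact e d'
  · exact h.ker_odd' d'

include hM

theorem principal_iff (η : IrrCharacter (Cen t)) :
    η ∈ principalBlock M (Cen t) ↔ ∀ n ∈ π.ker, (η : Cen t → ℂ) n = (η : Cen t → ℂ) 1 := by
  refine ⟨fun e => principal_trivial_on hM h.ker_odd' e, fun e => ?_⟩
  obtain ⟨φ, hφ, hφη⟩ := exists_deflate_irr π.ker η.2 e
  let q := QuotientGroup.quotientKerEquivOfSurjective π h.surj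
  have hψ : IsIrrCharacter GL23 (fun g => φ (q.symm.toMonoidHom g)) :=
    hφ.comp_surjective _ q.symm.surjective
  have hval : ∀ x : Cen t, (η : Cen t → ℂ) x = φ (q.symm.toMonoidHom (π x)) := fun x => by
    rw [show π x = q (x : Cen t ⧸ π.ker) from rfl]
    show _ = φ (q.symm (q _))
    rw [q.symm_apply_apply, hφη]
  rw [mem_principal_iff_regSum hM]
  have hne := (mem_principal_iff_regSum hM (⟨_, hψ⟩ : IrrCharacter GL23)).mp (gl23_principal hM _)
  have hsum : ∑ x : Cen t, pRegularPart 2 (η : Cen t → ℂ) x =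
      (Nat.card π.ker : ℂ) * ∑ g : GL23, pRegularPart 2 (fun g => φ (q.symm.toMonoidHom g)) g := by
    rw [← Finset.sum_fiberwise Finset.univ π, Finset.mul_sum]
    refine Finset.sum_congr rfl fun g _ => ?_
    rw [Finset.sum_congr rfl (g := fun _ => pRegularPart 2 (fun g => φ (q.symm.toMonoidHom g)) g)
      fun x hx => by
        have hq : π x = g := (Finset.mem_filter.1 hx).2
        subst hq
        by_cases hr : IsPRegular 2 x
        · rw [pRegularPart_of_reg hr, pRegularPart_of_reg ((h.regular_iff x).2 hr), hval]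
        · rw [pRegularPart_of_sing hr, pRegularPart_of_sing fun h' => hr ((h.regular_iff x).1 h')],
      Finset.sum_const, nsmul_eq_mul]
    congr 2
    rw [← card_fib h.surj g]
    rfl
  rw [hsum]
  exact mul_ne_zero ker_cast_ne_zero hne

/-- The averages at the classes of the section of the involution. -/
theorem av_section (χ : IrrCharacter G) {y : Cen t} (hy : IsPRegular 2 y)
    [Decidable (χ ∈ principalBlock M G)] :
    av π (χ : G → ℂ) (-π y) =
      if χ ∈ principalBlock M G then (χ : G → ℂ) (t * (y : G)) else 0 := by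
  classical
  have hu : ∃ k : ℕ, orderOf t = 2 ^ k := ⟨1, by rw [h.ht, pow_one]⟩
  have hHu : ∀ c : centralizer ({t} : Set G), Commute t (c : G) := fun c =>
    (mem_centralizer_singleton_iff.mp c.2).symm
  have hb := blockPart_indSet hM hu hHu le_rfl (isPBlock_principal (M := M) (G := G)) χ hy
  rw [indSet_principal hM hu hHu le_rfl] at hb
  have hs := sum_coset_eq π.ker (h.principal_iff hM) (isClassFunction_secFn hHu χ) y
  rw [hb] at hs
  have e : -π y = π (tc t * y) := by rw [map_mul, h.pi_tc, neg_one_mul]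
  rw [av, e, sum_fib (fun x : Cen t => (χ : G → ℂ) (x : G)),
    Finset.sum_congr rfl (g := fun n : π.ker => secFn t (centralizer ({t} : Set G)) (χ : G → ℂ) (y * (n : Cen t)))
      fun n _ => ?_, hs, ← mul_assoc, inv_mul_cancel₀ ker_cast_ne_zero, one_mul]
  rw [secFn, ← χ.2.isClassFunction (((n : Cen t) * (tc t * y) : Cen t) : G) (y : G)]
  congr 1
  simp only [coe_mul, coe_tc]
  rw [← mul_assoc ((n : Cen t) : G) t, mem_centralizer_singleton_iff.mp (n : Cen t).2]
  simp only [← mul_assoc]
  rw [mul_inv_cancel_right, mem_centralizer_singleton_iff.mp y.2]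

theorem exists_rho : ∃ r : Cen t, π r = rho 1 ∧ r ^ 8 = 1 := by
  obtain ⟨x, hx⟩ := h.surj (rho 1)
  have hcop : Nat.Coprime 8 (Nat.card π.ker) :=
    Nat.Coprime.pow_left 3 (Nat.coprime_two_left.mpr h.odd)
  obtain ⟨k, hk1, hk2⟩ := Nat.chineseRemainder hcop 1 0
  refine ⟨x ^ k, ?_, ?_⟩
  · rw [map_pow, hx, pow_eq_pow_mod k (n := 8) (by rw [← pow_mul, one_mul]; exact rho_eight),
      show k % 8 = 1 from hk1, pow_one]
  · obtain ⟨c, hc⟩ := (Nat.modEq_zero_iff_dvd.mp hk2)
    have h8 : π (x ^ 8) = 1 := by rw [map_pow, hx, ← pow_mul, one_mul]; exact rho_eight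
    rw [← pow_mul, hc, show Nat.card π.ker * c * 8 = 8 * (Nat.card π.ker * c) by ring, pow_mul,
      pow_mul (x ^ 8), orderOf_dvd_iff_pow_eq_one.mp (π.ker.orderOf_dvd_natCard (π.mem_ker.mpr h8)),
      one_pow]

/-- The averages at the classes of order four and eight. -/
theorem av_rho (χ : IrrCharacter G) {j : ℕ} (hj : j ∈ [1, 2, 5]) :
    (χ ∈ principalBlock M G → ∀ x ∈ fib π (rho j), (χ : G → ℂ) (x : G) = av π (χ : G → ℂ) (rho j)) ∧
      (χ ∉ principalBlock M G → av π (χ : G → ℂ) (rho j) = 0) := by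
  classical
  obtain ⟨r, hr, hr8⟩ := h.exists_rho hM
  have hπ : ∀ i : ℕ, π (r ^ i) = rho i := fun i => by rw [map_pow, hr, rho, rho, pow_one]
  set u : Cen t := r ^ j with hu_def
  have hu : π u = rho j := hπ j
  have hue : Exc (π u) := hu ▸ exc_rho j hj
  have hu8 : u ^ 8 = 1 := by rw [hu_def, ← pow_mul, mul_comm, pow_mul, hr8, one_pow]
  have huG : ∃ k : ℕ, orderOf (u : G) = 2 ^ k := by
    obtain ⟨k, -, hk⟩ := (Nat.dvd_prime_pow Nat.prime_two).mp
      (orderOf_dvd_of_pow_eq_one (show u ^ 2 ^ 3 = 1 from hu8))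
    exact ⟨k, by rw [orderOf_coe, hk]⟩
  set H := centralizer ({(u : G)} : Set G) with hH
  let f : H →* GL23 := π.comp (inclusion (h.centralizer_le hue))
  have hrH : ∀ i : ℕ, ((r ^ i : Cen t) : G) ∈ H := fun i => mem_centralizer_singleton_iff.mpr
    (congrArg Subtype.val (show r ^ i * u = u * r ^ i by rw [hu_def, ← pow_add, ← pow_add, add_comm]))
  have hfr : ∀ x : H, ∃ i : Fin 8, f x = rho i := fun x => by
    refine cent_rho j hj _ ?_
    show π _ * rho j = rho j * π _
    rw [← hu, ← map_mul, ← map_mul]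
    exact congrArg π (Subtype.ext (mem_centralizer_singleton_iff.mp x.2))
  have hrange : Nat.card f.range = 8 := by
    rw [← Nat.card_fin 8]
    refine (Nat.card_eq_of_bijective (fun i : Fin 8 => (⟨rho i, ⟨⟨_, hrH i⟩, hπ i⟩⟩ : f.range))
      ⟨fun a b e => rho_injective (congrArg Subtype.val e), ?_⟩).symm
    rintro ⟨_, x, rfl⟩
    obtain ⟨i, hi⟩ := hfr x
    exact ⟨i, Subtype.ext hi.symm⟩
  have hkodd : ¬ 2 ∣ Nat.card f.ker := fun d => h.ker_odd' (d.trans (by
    refine Subgroup.card_dvd_of_injective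
      (((inclusion (h.centralizer_le hue)).comp f.ker.subtype).codRestrict π.ker fun x => π.mem_ker.mpr x.2)
      fun a b e => ?_
    exact Subtype.ext (Subtype.ext (congrArg (fun z : π.ker => ((z : Cen t) : G)) e))))
  obtain ⟨R⟩ : Nonempty (Sylow 2 H) := inferInstance
  have hHc : Nat.card H = Nat.card f.ker * 8 := by rw [← card_mul_index f.ker, index_ker, hrange]
  have hR : Nat.card (R : Subgroup H) = 8 := by
    rw [R.card_eq_multiplicity, hHc, Nat.factorization_mul Nat.card_pos.ne' (by norm_num), Finsupp.add_apply,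
      Nat.factorization_eq_zero_of_not_dvd hkodd, zero_add, show (8 : ℕ) = 2 ^ 3 by norm_num,
      Nat.Prime.factorization_pow Nat.prime_two, Finsupp.single_eq_same]
  have hc : HasNormalPComplement 2 H := ⟨R, f.ker, inferInstance,
    isComplement'_of_coprime (by rw [hR, hHc]) (by
      rw [hR]
      exact (Nat.Coprime.pow_left 3 ((Nat.prime_two.coprime_iff_not_dvd).mpr hkodd)).symm)⟩
  -- the characters of the principal block are constant on the fibre
  have hconst : ∀ ξ : IrrCharacter G, ξ ∈ principalBlock M G →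
      ∀ x ∈ fib π (rho j), (ξ : G → ℂ) (x : G) = (ξ : G → ℂ) (u : G) := by
    intro ξ hχ x hx
    rw [mem_fib] at hx
    set U : Subgroup (Cen t) := (zpowers (rho 1)).comap π with hU
    have hrU : r ∈ U := by show π r ∈ zpowers (rho 1); rw [hr]; exact mem_zpowers _
    have hxU : x ∈ U := by
      show π x ∈ zpowers (rho 1)
      rw [hx]; exact ⟨(j : ℤ), by simp [rho, zpow_natCast]⟩
    have hcop : Nat.Coprime 8 (Nat.card π.ker) :=
      Nat.Coprime.pow_left 3 (Nat.coprime_two_left.mpr h.odd)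
    obtain ⟨k, hk1, hk2⟩ := Nat.chineseRemainder hcop 1 0
    obtain ⟨c, hc'⟩ := Nat.modEq_zero_iff_dvd.mp hk2
    have hv8 : (x ^ k) ^ 2 ^ 3 = 1 := by
      have h8 : π (x ^ 8) = 1 := by rw [map_pow, hx, ← hu, ← map_pow, hu8, map_one]
      rw [← pow_mul, hc', show Nat.card π.ker * c * 2 ^ 3 = 8 * (Nat.card π.ker * c) by ring, pow_mul,
        pow_mul (x ^ 8), orderOf_dvd_iff_pow_eq_one.mp (π.ker.orderOf_dvd_natCard (π.mem_ker.mpr h8)),
        one_pow]
    have hvπ : π (x ^ k) = rho j := by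
      rw [map_pow, hx, pow_eq_pow_mod k (n := 8) (by rw [← hu, ← map_pow, hu8, map_one]),
        show k % 8 = 1 from hk1, pow_one]
    have hvp : IsPGroup 2 (zpowers (⟨x ^ k, pow_mem hxU k⟩ : U)) := fun z => by
      obtain ⟨i, hi⟩ := z.2
      refine ⟨3, Subtype.ext (Subtype.ext ?_)⟩
      simp only [SubmonoidClass.coe_pow, ← hi, SubgroupClass.coe_zpow, coe_one]
      rw [← zpow_natCast, ← zpow_mul, mul_comm, zpow_mul, zpow_natCast, hv8, one_zpow]
    have hrp : IsPGroup 2 (zpowers (⟨r, hrU⟩ : U)) := fun z => by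
      obtain ⟨i, hi⟩ := z.2
      refine ⟨3, Subtype.ext (Subtype.ext ?_)⟩
      simp only [SubmonoidClass.coe_pow, ← hi, SubgroupClass.coe_zpow, coe_one]
      rw [← zpow_natCast, ← zpow_mul, mul_comm, zpow_mul, zpow_natCast, show r ^ 2 ^ 3 = 1 from hr8, one_zpow]
    obtain ⟨S₁, hS₁⟩ := hvp.exists_le_sylow
    obtain ⟨S₂, hS₂⟩ := hrp.exists_le_sylow
    obtain ⟨g, hg⟩ := MulAction.exists_smul_eq U S₁ S₂
    set v' : Cen t := (g : Cen t) * x ^ k * (g : Cen t)⁻¹ with hv'
    have hv'mem : (⟨v', mul_mem (mul_mem g.2 (pow_mem hxU k)) (inv_mem g.2)⟩ : U) ∈ (S₂ : Subgroup U) := by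
      rw [← hg]
      exact smul_mem_pointwise_smul _ (MulAut.conj g) _ (hS₁ (mem_zpowers _))
    have humem : (⟨u, hu_def ▸ pow_mem hrU j⟩ : U) ∈ (S₂ : Subgroup U) := by
      have : (⟨u, hu_def ▸ pow_mem hrU j⟩ : U) = (⟨r, hrU⟩ : U) ^ j := Subtype.ext rfl
      rw [this]; exact pow_mem (hS₂ (mem_zpowers _)) j
    have hgu : π (g : Cen t) * rho j = rho j * π (g : Cen t) := by
      obtain ⟨i, hi⟩ := g.2
      rw [← hi, rho, rho, pow_one]
      exact (((Commute.refl (repU 6)).zpow_left i).pow_right j).eq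
    have hπv' : π v' = π u := by
      rw [hv', map_mul, map_mul, map_inv, hvπ, hgu, mul_inv_cancel_right, hu]
    have heq : v' = u := by
      obtain ⟨i, hi⟩ := S₂.isPGroup' ⟨_, (S₂ : Subgroup U).mul_mem hv'mem ((S₂ : Subgroup U).inv_mem humem)⟩
      refine mul_inv_eq_one.mp (h.eq_one_of_two_pow (j := i) (by rw [map_mul, map_inv, hπv', mul_inv_cancel]) ?_)
      exact congrArg (fun z : (S₂ : Subgroup U) => ((z : U) : Cen t)) hi
    set x' : Cen t := (g : Cen t) * x * (g : Cen t)⁻¹ with hx'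
    have hcx : x' * u = u * x' := by
      rw [← heq, hv', ← conj_pow, ← hx', ← pow_succ, ← pow_succ']
    have hy : π (u⁻¹ * x') = 1 := by
      rw [map_mul, map_inv, hx', map_mul, map_mul, map_inv, hx, hu, hgu, mul_inv_cancel_right,
        inv_mul_cancel]
    have hval := OneClass.principal_value_section hM hχ (u := (u : G)) (y := ((u⁻¹ * x' : Cen t) : G)) huG hc
      (congrArg Subtype.val (show u * (u⁻¹ * x') = u⁻¹ * x' * u by
        rw [mul_inv_cancel_left, mul_assoc, hcx, inv_mul_cancel_left]))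
      (by
        rw [orderOf_coe]
        exact fun d => h.ker_odd' (d.trans (π.ker.orderOf_dvd_natCard (π.mem_ker.mpr hy))))
    rw [← coe_mul, mul_inv_cancel_left, hx'] at hval
    rw [← hval, coe_mul, coe_mul, coe_inv, ξ.2.isClassFunction]
  refine ⟨fun hχ x hx => ?_, ?_⟩
  · rw [hconst χ hχ x hx, av_of_const h.surj (hconst χ hχ)]
  intro hχ
  have hall := h.sum_av_self (exc_rho j hj)
  rw [card_cent_rho j hj] at hall
  have hB : ∑ ξ ∈ (principalBlock M G).toFinset,
      av π (ξ : G → ℂ) (rho j) * conj (av π (ξ : G → ℂ) (rho j)) = (8 : ℕ) := by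
    have hcol := principal_column hM huG huG
    rw [if_pos (IsConj.refl _), finsum_mem_eq_toFinset_sum, principalDegSq_of_complement hM hc R, hR] at hcol
    rw [← hcol]
    refine Finset.sum_congr rfl fun ξ hξ => ?_
    rw [Set.mem_toFinset] at hξ
    rw [av_of_const h.surj (hconst ξ hξ)]
  rw [← Finset.sum_compl_add_sum (principalBlock M G).toFinset, hB, add_eq_right] at hall
  have hnn : ∀ ξ : IrrCharacter G, av π (ξ : G → ℂ) (rho j) * conj (av π (ξ : G → ℂ) (rho j)) =
      ((Complex.normSq (av π (ξ : G → ℂ) (rho j)) : ℝ) : ℂ) := fun ξ => Complex.mul_conj _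
  simp only [hnn, ← Complex.ofReal_sum, Complex.ofReal_eq_zero] at hall
  exact Complex.normSq_eq_zero.mp ((Finset.sum_eq_zero_iff_of_nonneg fun ξ _ => Complex.normSq_nonneg _).mp
    hall χ (Finset.mem_compl.mpr fun e => hχ (Set.mem_toFinset.mp e)))

end Hyp

end Cfsg.Lib.Small.GL23Core
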