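import Cfsg.Agent.Lib.Small.CentralizerGL23

/-!
# The exceptional coefficients of a character of `GL(2, 3)`
-/

set_option autoImplicit false
set_option linter.unusedSectionVars false
set_option synthInstance.maxHeartbeats 200000
set_option synthInstance.maxSize 2048
set_option maxRecDepth 4000

namespace Cfsg.Lib.Small.GL23Core

open Subgroup Cfsg Cfsg.Lib.Char
open Cfsg.Lib.Small.CentralizerGL23 hiding sum_subgroup sum_cyclic coeffs val apply_emb exists_twisted_sum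
open scoped ComplexConjugate

/-- The value on a class. -/
def valC (χ : GL23 → ℂ) (k : Fin 8) : ℂ := χ (repU k)

theorem apply_cls {χ : GL23 → ℂ} (hχ : IsClassFunction GL23 χ) (x : GL23) : χ x = valC χ (cls (x : Mat)) := by
  obtain ⟨c, hc⟩ := isConj_iff.mp (isConj_repU x)
  conv_lhs => rw [← hc, hχ]
  rfl

/-- A character twisted by a linear character of a group mapped into `GL(2, 3)`. -/
theorem exists_twisted_sum {χ : GL23 → ℂ} (hχ : IsCharacter GL23 χ) {A : Type} [Group A] [Fintype A]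
    (φ : A →* GL23) (l : A →* ℂˣ) :
    ∃ n : ℕ, ∑ a, χ (φ a) * conj (l a : ℂ) = (Fintype.card A : ℂ) * n := by
  obtain ⟨n, hn⟩ := (hχ.comp φ).exists_nat_classInner (isIrrCharacter_linear l).isCharacter
  refine ⟨n, ?_⟩
  simp only [classInner, Nat.card_eq_fintype_card] at hn
  rw [inv_mul_eq_iff_eq_mul₀ (Nat.cast_ne_zero.mpr Fintype.card_ne_zero)] at hn
  rw [← hn]

theorem sum_subgroup {χ : GL23 → ℂ} (hχ : IsCharacter GL23 χ) (K : Subgroup GL23)
    [DecidablePred (· ∈ K)] (j : Bool) :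
    ∃ n : ℕ, ∑ k : Fin 8, ((Finset.univ.filter fun x : GL23 => x ∈ K ∧ cls (x : Mat) = k).card : ℂ) *
      ((if j then ((![1, 1, 1, 1, 1, -1, -1, -1] k : ℤ) : ℂ) else 1) * valC χ k) =
      ((Finset.univ.filter fun x : GL23 => x ∈ K).card : ℂ) * n := by
  let l : K →* ℂˣ := if j then (Units.map (Int.castRingHom ℂ).toMonoidHom).comp (sgn.comp K.subtype) else 1
  obtain ⟨n, hn⟩ := exists_twisted_sum hχ K.subtype l
  refine ⟨n, ?_⟩
  rw [← Fintype.card_subtype, ← hn]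
  have hterm : ∀ a : K, χ (a : GL23) * conj (l a : ℂ) =
      (fun x : GL23 => (if j then ((![1, 1, 1, 1, 1, -1, -1, -1] (cls (x : Mat)) : ℤ) : ℂ) else 1) *
        valC χ (cls (x : Mat))) a := by
    intro a
    rw [apply_cls hχ.isClassFunction, mul_comm]
    congr 1
    cases j
    · simp [l]
    · simp [l, ← sgn_apply]
  simp only [Subgroup.coe_subtype, hterm]
  rw [← Finset.sum_subtype (p := (· ∈ K)) (Finset.univ.filter fun x : GL23 => x ∈ K) (fun x => by simp)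
      (fun x : GL23 => (if j = true then ((![1, 1, 1, 1, 1, -1, -1, -1] (cls (x : Mat)) : ℤ) : ℂ) else 1) *
        valC χ (cls (x : Mat))),
    ← Finset.sum_fiberwise (Finset.univ.filter fun x : GL23 => x ∈ K) (fun x => cls (x : Mat))]
  refine Finset.sum_congr rfl fun k _ => ?_
  rw [Finset.filter_filter, ← nsmul_eq_mul, ← Finset.sum_const]
  exact Finset.sum_congr rfl fun x hx => by rw [(Finset.mem_filter.mp hx).2.2]

theorem sum_cyclic {χ : GL23 → ℂ} (hχ : IsCharacter GL23 χ) {ζ : ℂ} (hζ : ζ ^ 4 = -1) :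
    ∃ n : ℕ, valC χ 0 + valC χ 6 * ζ + valC χ 4 * ζ ^ 2 + valC χ 6 * ζ ^ 3 + valC χ 1 * (-1) +
      valC χ 7 * (-ζ) + valC χ 4 * (-ζ ^ 2) + valC χ 7 * (-ζ ^ 3) = 8 * (n : ℂ) := by
  have h8 : conj ζ ^ 8 = 1 := by rw [← map_pow, show ζ ^ 8 = (ζ ^ 4) ^ 2 by ring, hζ]; simp
  let z : ℂˣ := Units.mk0 (conj ζ) fun h => by simp [h] at h8
  have hz : z ^ 8 = 1 := Units.ext (by simpa [z] using h8)
  let l : Multiplicative (ZMod 8) →* ℂˣ :=
    ⟨⟨fun j => z ^ j.toAdd.val, by simp⟩, fun a b => by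
      show z ^ (a.toAdd + b.toAdd).val = z ^ a.toAdd.val * z ^ b.toAdd.val
      rw [← pow_add, ZMod.val_add, ← pow_eq_pow_mod _ hz]⟩
  obtain ⟨n, hn⟩ := exists_twisted_sum hχ cyc l
  refine ⟨n, ?_⟩
  rw [← Fintype.sum_equiv (Multiplicative.ofAdd : ZMod 8 ≃ _)
    (fun j => χ (cyc (Multiplicative.ofAdd j)) * conj (l (Multiplicative.ofAdd j) : ℂ)) _
    (fun j => rfl)] at hn
  have hterm : ∀ j : ZMod 8, χ (cyc (Multiplicative.ofAdd j)) *
      conj (l (Multiplicative.ofAdd j) : ℂ) = valC χ (![0, 6, 4, 6, 1, 7, 4, 7] j) * ζ ^ j.val := by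
    intro j
    rw [apply_cls hχ.isClassFunction, show cyc (Multiplicative.ofAdd j) = repU 6 ^ j.val from rfl,
      rep_six_pow' j]
    congr 1
    show conj ((z ^ j.val : ℂˣ) : ℂ) = _
    simp [z]
  simp only [hterm, Fintype.card_multiplicative, ZMod.card] at hn
  have hn' : ∑ j : Fin 8, valC χ (![0, 6, 4, 6, 1, 7, 4, 7] j) * ζ ^ (j : ℕ) = 8 * (n : ℂ) := by
    rw [show ((8 : ℕ) : ℂ) = 8 by norm_num] at hn
    exact hn
  have hv : ∀ j : Fin 8, (j : ℕ) = j.val := fun _ => rfl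
  simp only [Fin.sum_univ_eight] at hn'
  simp only [show ((0 : Fin 8) : ℕ) = 0 by rfl, show ((1 : Fin 8) : ℕ) = 1 by rfl,
    show ((2 : Fin 8) : ℕ) = 2 by rfl, show ((3 : Fin 8) : ℕ) = 3 by rfl,
    show ((4 : Fin 8) : ℕ) = 4 by rfl, show ((5 : Fin 8) : ℕ) = 5 by rfl,
    show ((6 : Fin 8) : ℕ) = 6 by rfl, show ((7 : Fin 8) : ℕ) = 7 by rfl] at hn'
  simp (config := { decide := true }) only [Matrix.cons_val, pow_zero, mul_one, pow_one] at hn'
  rw [show ζ ^ 5 = ζ ^ 4 * ζ by ring, show ζ ^ 6 = ζ ^ 4 * ζ ^ 2 by ring,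
    show ζ ^ 7 = ζ ^ 4 * ζ ^ 3 by ring, hζ] at hn'
  linear_combination hn'

set_option maxHeartbeats 2000000 in
theorem coeffs {χ : GL23 → ℂ} (hχ : IsCharacter GL23 χ) {ζ : ℂ} (hζ : ζ ^ 4 = -1)
    (hζc : conj ζ = -ζ ^ 3) :
    ∃ (D : ℤ) (n : Fin 5 → ℤ), χ 1 = D ∧
      (∀ i, (n i : ℂ) = ∑ k, cf (ζ + ζ ^ 3) i k * valC χ (dk k)) ∧
      valC χ 1 = tv n ∧ valC χ 3 = uv n ∧ valC χ 6 + valC χ 7 = ((2 * (n 1 - n 2) : ℤ) : ℂ) ∧
      (8 : ℤ) ∣ D + tv n + 2 * wv n + 4 * (n 1 - n 2) := by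
  classical
  obtain ⟨d, hd⟩ := hχ.exists_degree
  obtain ⟨w1, hw1⟩ := sum_subgroup hχ ⊤ false
  obtain ⟨we, hwe⟩ := sum_subgroup hχ ⊤ true
  haveI : DecidablePred (· ∈ CentralizerGL23.borel) := fun x => decidable_of_iff ((x : Mat) 1 0 = 0) Iff.rfl
  haveI : DecidablePred (· ∈ vecStab) := fun x =>
    decidable_of_iff ((x : Mat) 1 0 = 0 ∧ (x : Mat) 0 0 = 1) Iff.rfl
  obtain ⟨p1, hp1⟩ := sum_subgroup hχ CentralizerGL23.borel false
  obtain ⟨pe, hpe⟩ := sum_subgroup hχ CentralizerGL23.borel true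
  obtain ⟨q1, hq1⟩ := sum_subgroup hχ vecStab false
  have cT : ∀ k, (Finset.univ.filter fun x : GL23 => x ∈ (⊤ : Subgroup GL23) ∧ cls (x : Mat) = k).card =
      ![1, 1, 8, 8, 6, 12, 6, 6] k := fun k => by
    rw [← card_class k]; congr 1; simp
  have cT' : (Finset.univ.filter fun x : GL23 => x ∈ (⊤ : Subgroup GL23)).card = 48 := by
    rw [← card_gl]; simp
  have cB : ∀ k, (Finset.univ.filter fun x : GL23 => x ∈ CentralizerGL23.borel ∧ cls (x : Mat) = k).card =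
      ![1, 1, 2, 2, 0, 6, 0, 0] k := fun k => by
    have h : ∀ k, (Finset.univ.filter fun x : GL23 => (x : Mat) 1 0 = 0 ∧ cls (x : Mat) = k).card =
      ![1, 1, 2, 2, 0, 6, 0, 0] k := by decide +kernel
    rw [← h k]; congr 1; ext x; simp only [Finset.mem_filter]; rfl
  have cB' : (Finset.univ.filter fun x : GL23 => x ∈ CentralizerGL23.borel).card = 12 := by
    have h : (Finset.univ.filter fun x : GL23 => (x : Mat) 1 0 = 0).card = 12 := by decide +kernel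
    rw [← h]; congr 1; ext x; simp only [Finset.mem_filter]; rfl
  have cV : ∀ k, (Finset.univ.filter fun x : GL23 => x ∈ vecStab ∧ cls (x : Mat) = k).card =
      ![1, 0, 2, 0, 0, 3, 0, 0] k := fun k => by
    have h : ∀ k, (Finset.univ.filter fun x : GL23 =>
      ((x : Mat) 1 0 = 0 ∧ (x : Mat) 0 0 = 1) ∧ cls (x : Mat) = k).card =
      ![1, 0, 2, 0, 0, 3, 0, 0] k := by decide +kernel
    rw [← h k]; congr 1; ext x; simp only [Finset.mem_filter]; rfl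
  have cV' : (Finset.univ.filter fun x : GL23 => x ∈ vecStab).card = 6 := by
    have h : (Finset.univ.filter fun x : GL23 => (x : Mat) 1 0 = 0 ∧ (x : Mat) 0 0 = 1).card = 6 := by
      decide +kernel
    rw [← h]; congr 1; ext x; simp only [Finset.mem_filter]; rfl
  simp only [cT, cT', Fin.sum_univ_eight] at hw1 hwe
  simp only [cB, cB', Fin.sum_univ_eight] at hp1 hpe
  simp only [cV, cV', Fin.sum_univ_eight] at hq1
  simp only [Matrix.cons_val, Bool.false_eq_true, if_false, if_true, Nat.cast_ofNat, Nat.cast_one,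
    Nat.cast_zero, Int.cast_one, Int.cast_neg, one_mul, zero_mul, neg_mul, mul_neg] at hw1 hwe hp1 hpe hq1
  obtain ⟨cl, hcl⟩ := sum_cyclic hχ (ζ := conj ζ) (by rw [← map_pow, hζ]; simp)
  obtain ⟨cl', hcl'⟩ := sum_cyclic hχ hζ
  obtain ⟨c₁, hc₁⟩ := exists_twisted_sum hχ cyc 1
  have hc0 : valC χ 0 + valC χ 1 + 2 * valC χ 4 + 2 * valC χ 6 + 2 * valC χ 7 = 8 * (c₁ : ℂ) := by
    rw [← Fintype.sum_equiv (Multiplicative.ofAdd : ZMod 8 ≃ _)
      (fun j => valC χ (![0, 6, 4, 6, 1, 7, 4, 7] j)) _ (fun j => by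
        rw [apply_cls hχ.isClassFunction, show cyc (Multiplicative.ofAdd j) = repU 6 ^ j.val from rfl,
          rep_six_pow' j]
        simp)] at hc₁
    simp only [Fintype.card_multiplicative, ZMod.card, Nat.cast_ofNat] at hc₁
    have h' : ∑ j : Fin 8, valC χ (![0, 6, 4, 6, 1, 7, 4, 7] j) = 8 * (c₁ : ℂ) := hc₁
    simp only [Fin.sum_univ_eight, Matrix.cons_val] at h'
    linear_combination h'
  set s := ζ + ζ ^ 3 with hs
  have hclS : valC χ 0 - valC χ 1 - s * valC χ 6 + s * valC χ 7 = 8 * (cl : ℂ) := by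
    rw [hζc] at hcl
    have h9 : (-ζ ^ 3) ^ 3 = -ζ := by linear_combination (-ζ ^ 5 + ζ) * hζ
    rw [h9] at hcl
    rw [hs]; linear_combination hcl
  have hclS' : valC χ 0 - valC χ 1 + s * valC χ 6 - s * valC χ 7 = 8 * (cl' : ℂ) := by
    rw [hs]; linear_combination hcl'
  let n : Fin 5 → ℤ := ![(cl : ℤ) - cl', (w1 : ℤ) - we + pe - q1 + p1, (we : ℤ) - w1 + 2 * p1 - q1,
    (c₁ : ℤ) - w1 - pe + we - cl + q1 - p1, (c₁ : ℤ) - 2 * pe + 2 * we + q1 - 2 * p1]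
  have hn : ∀ i, (n i : ℂ) = ∑ k, cf s i k * valC χ (dk k) := by
    intro i
    fin_cases i <;>
      simp only [n, cf, dk, Fin.sum_univ_five, Fin.zero_eta, Fin.mk_one, Fin.reduceFinMk, Matrix.cons_val] <;>
      push_cast
    · linear_combination (-1 / 8 : ℂ) * hclS + (1 / 8 : ℂ) * hclS'
    · linear_combination (-1 / 48 : ℂ) * hw1 + (1 / 48 : ℂ) * hwe + (-1 / 12 : ℂ) * hpe + (1 / 6 : ℂ) * hq1
        + (-1 / 12 : ℂ) * hp1
    · linear_combination (1 / 48 : ℂ) * hw1 + (-1 / 48 : ℂ) * hwe + (1 / 6 : ℂ) * hq1 + (-1 / 6 : ℂ) * hp1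
    · linear_combination (-1 / 8 : ℂ) * hc0 + (1 / 48 : ℂ) * hw1 + (1 / 12 : ℂ) * hpe + (-1 / 48 : ℂ) * hwe
        + (1 / 8 : ℂ) * hclS + (-1 / 6 : ℂ) * hq1 + (1 / 12 : ℂ) * hp1
    · linear_combination (-1 / 8 : ℂ) * hc0 + (1 / 6 : ℂ) * hpe + (-1 / 24 : ℂ) * hwe + (-1 / 6 : ℂ) * hq1
        + (1 / 6 : ℂ) * hp1
  have e0 := hn 0; have e1 := hn 1; have e2 := hn 2; have e3 := hn 3; have e4 := hn 4
  simp only [cf, dk, Fin.sum_univ_five, Matrix.cons_val] at e0 e1 e2 e3 e4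
  have hv0 : valC χ 0 = d := by
    rw [valC, show repU 0 = 1 from rfl, hd]
  have hT : valC χ 1 = tv n := by rw [tv]; push_cast; linear_combination -e1 - e2 + 2 * e4 - 4 * e3 - 2 * e0
  have hW : valC χ 4 = wv n := by rw [wv]; push_cast; linear_combination -2 * e4 - e1 - e2
  have hP : valC χ 6 + valC χ 7 = ((2 * (n 1 - n 2) : ℤ) : ℂ) := by
    push_cast; linear_combination -2 * e1 + 2 * e2
  refine ⟨(d : ℤ), n, by rw [hd]; norm_cast, hn, hT, ?_, hP, ⟨c₁, ?_⟩⟩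
  · rw [uv]; push_cast; linear_combination -e1 - e2 - e4 + 2 * e3 + e0
  · have : (((d : ℤ) + tv n + 2 * wv n + 4 * (n 1 - n 2) : ℤ) : ℂ) = ((8 * (c₁ : ℤ) : ℤ) : ℂ) := by
      push_cast
      rw [← hc0, ← hT, ← hW, hv0]
      push_cast at hP
      linear_combination -2 * hP
    exact_mod_cast this

end Cfsg.Lib.Small.GL23Core
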