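import Cfsg.Agent.Lib.Small.GL23Core.Average
import Cfsg.Agent.Lib.Small.GL23Core.Coeffs
import Cfsg.Agent.Lib.Small.CentralizerGL23Card

/-!
# The order formula, and a rational character of small degree
-/

set_option autoImplicit false
set_option linter.style.haveILetI false
set_option linter.unusedSectionVars false
set_option linter.unusedDecidableInType false
set_option maxRecDepth 4000

namespace Cfsg.Lib.Small.GL23Core

open Subgroup Cfsg Cfsg.Lib.Char
open Cfsg.Lib.Small.CentralizerGL23 hiding sum_subgroup sum_cyclic coeffs val apply_emb exists_twisted_sum perfect not_comm card_eq one_class card_centralizer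
open Cfsg.Lib.Block (exists_isPModular)
open scoped ComplexConjugate commutatorElement

universe u

noncomputable local instance (priority := high) fintypeSubgroupGL23Equations {A : Type u}
    [Group A] [Fintype A] (H : Subgroup A) : Fintype H := Fintype.ofFinite H

/-- The pairs of noncentral involutions with a given product. -/
def pairSet (g : GL23) : Finset GL23 :=
  Finset.univ.filter fun a => a * a = 1 ∧ a ≠ 1 ∧ g * a * (g * a) = 1 ∧ g * a ≠ 1

theorem pairSet_cls : ∀ k : Fin 8, k = 1 ∨ k = 3 ∨ k = 6 ∨ k = 7 → ∀ a ∈ pairSet (repU k),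
    cls (a : Mat) = 5 ∧ cls ((repU k * a : GL23) : Mat) = 5 := by decide +kernel

theorem pow_classes : ∀ k : Fin 24, Nat.Coprime (k : ℕ) 24 →
    cls ((repU 1 ^ (k : ℕ) : GL23) : Mat) = 1 ∧ cls ((repU 3 ^ (k : ℕ) : GL23) : Mat) = 3 ∧
      cls ((repU 4 ^ (k : ℕ) : GL23) : Mat) = 4 ∧
      ((cls ((repU 6 ^ (k : ℕ) : GL23) : Mat) = 6 ∧ cls ((repU 7 ^ (k : ℕ) : GL23) : Mat) = 7) ∨
        (cls ((repU 6 ^ (k : ℕ) : GL23) : Mat) = 7 ∧ cls ((repU 7 ^ (k : ℕ) : GL23) : Mat) = 6)) := by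
  decide +kernel

theorem pow_twentyfour : ∀ i, repU (dk i) ^ 24 = 1 := by decide +kernel

theorem cls_neg_one : cls ((-1 : GL23) : Mat) = 1 := by decide +kernel

theorem rho_cls : ∀ i : Fin 8, cls (rho i : Mat) = ![0, 6, 4, 6, 1, 7, 4, 7] i := rep_six_pow

theorem rho_list : ∀ i : Fin 8, i ≠ 0 → i ≠ 4 →
    ![(0 : Fin 8), 6, 4, 6, 1, 7, 4, 7] i ∈ ([4, 6, 7] : List (Fin 8)) := by decide +kernel

theorem repU_five : repU 5 * repU 5 = 1 ∧ repU 5 ≠ 1 := by decide +kernel

variable {G : Type u} [Group G] [Fintype G] {t : G} {π : Cen t →* GL23}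

open Classical in
/-- The number of involutions over an element. -/
noncomputable def nInv (π : Cen t →* GL23) (a : GL23) : ℕ :=
  ((fib π a).filter fun y => y * y = 1).card

namespace Hyp

variable (h : Hyp t π)
include h

theorem nInv_eq {a : GL23} (ha : cls (a : Mat) = 5) : nInv π a = nInv π (repU 5) := by
  classical
  obtain ⟨c, hc⟩ := isConj_iff.mp (ha ▸ isConj_repU a : IsConj (repU 5) a)
  obtain ⟨z, rfl⟩ := h.surj c
  symm
  refine Finset.card_bij' (fun y _ => z * y * z⁻¹) (fun y _ => z⁻¹ * y * z) ?_ ?_ ?_ ?_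
  · intro y hy
    simp only [Finset.mem_filter, mem_fib] at hy ⊢
    refine ⟨by rw [map_mul, map_mul, map_inv, hy.1, hc], ?_⟩
    rw [show z * y * z⁻¹ * (z * y * z⁻¹) = z * (y * y) * z⁻¹ by group, hy.2, mul_one, mul_inv_cancel]
  · intro y hy
    simp only [Finset.mem_filter, mem_fib] at hy ⊢
    refine ⟨by rw [map_mul, map_mul, map_inv, hy.1, ← hc]; group, ?_⟩
    rw [show z⁻¹ * y * z * (z⁻¹ * y * z) = z⁻¹ * (y * y) * z by group, hy.2, mul_one, inv_mul_cancel]
  · intro y _; group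
  · intro y _; group

theorem nInv_pos : 0 < nInv π (repU 5) := by
  classical
  obtain ⟨x, hx⟩ := h.surj (repU 5)
  refine Finset.card_pos.mpr ⟨x ^ Nat.card π.ker, Finset.mem_filter.mpr ⟨mem_fib.mpr ?_, ?_⟩⟩
  · obtain ⟨c, hc⟩ := h.odd
    rw [map_pow, hx, hc, pow_succ, pow_mul, sq, repU_five.1, one_pow, one_mul]
  · rw [← pow_add, ← two_mul, pow_mul]
    exact orderOf_dvd_iff_pow_eq_one.mp (π.ker.orderOf_dvd_natCard (π.mem_ker.mpr (by
      rw [map_pow, hx, sq, repU_five.1])))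

theorem nInv_le : nInv π (repU 5) ≤ Nat.card π.ker := by
  classical
  rw [← card_fib h.surj (repU 5)]
  exact Finset.card_filter_le _ _

open Classical in
theorem pair_count {k : Fin 5} (hk : dk k = 1 ∨ dk k = 3 ∨ dk k = 6 ∨ dk k = 7) :
    ∑ y ∈ fib π (repU (dk k)), ((involFinset G).filter fun z => (y : G) * z ∈ involFinset G).card =
      (pairSet (repU (dk k))).card * (nInv π (repU 5) * nInv π (repU 5)) := by
  set g := repU (dk k) with hg
  have hin : ∀ (y : Cen t), y ∈ fib π g →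
      ((involFinset G).filter fun z => (y : G) * z ∈ involFinset G).card =
        (Finset.univ.filter fun z : Cen t => z * z = 1 ∧ z ≠ 1 ∧ y * z * (y * z) = 1 ∧ y * z ≠ 1).card := by
    intro y hy
    rw [mem_fib] at hy
    rw [← Finset.card_map ⟨(fun z : Cen t => (z : G)), Subtype.val_injective⟩]
    congr 1
    ext z
    simp only [Finset.mem_filter, Finset.mem_map, Finset.mem_univ, true_and, Function.Embedding.coeFn_mk,
      mem_involFinset]
    constructor
    · rintro ⟨⟨hz1, hz2⟩, hz3, hz4⟩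
      have hzi : z⁻¹ = z := inv_eq_of_mul_eq_one_right hz2
      have hinv : z * (y : G) * z⁻¹ = (y⁻¹ : Cen t) := by
        rw [coe_inv, hzi, ← eq_inv_of_mul_eq_one_right (show (y : G) * (z * (y : G) * z) = 1 by
          rw [← mul_assoc, ← mul_assoc, mul_assoc ((y : G) * z)]; exact hz4)]
      have hye : Exc (π y) := hy ▸ exc_dk k
      have hyi : Exc (π y⁻¹) := by
        obtain ⟨m, hm⟩ := hye
        exact ⟨m, by rw [map_inv, inv_pow, hm, inv_neg, inv_one]⟩
      refine ⟨⟨z, h.commute_of_conj hye hyi hinv⟩, ⟨Subtype.ext hz2, fun e => hz1 (congrArg Subtype.val e),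
        Subtype.ext hz4, fun e => hz3 (congrArg Subtype.val e)⟩, rfl⟩
    · rintro ⟨d, ⟨h1, h2, h3, h4⟩, rfl⟩
      exact ⟨⟨fun e => h2 (Subtype.ext e), congrArg Subtype.val h1⟩, fun e => h4 (Subtype.ext e),
        congrArg Subtype.val h3⟩
  rw [Finset.sum_congr rfl hin]
  set W : Finset (Cen t × Cen t) := Finset.univ.filter fun p =>
    π p.1 * π p.2 = g ∧ p.1 * p.1 = 1 ∧ p.1 ≠ 1 ∧ p.2 * p.2 = 1 ∧ p.2 ≠ 1 with hW
  have h1 : ∑ y ∈ fib π g, (Finset.univ.filter fun z : Cen t =>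
      z * z = 1 ∧ z ≠ 1 ∧ y * z * (y * z) = 1 ∧ y * z ≠ 1).card = W.card := by
    rw [← Finset.card_sigma]
    refine Finset.card_bij' (fun p _ => (p.1 * p.2, p.2)) (fun p _ => ⟨p.1 * p.2, p.2⟩) ?_ ?_ ?_ ?_
    · rintro ⟨y, z⟩ hp
      simp only [Finset.mem_sigma, Finset.mem_filter, Finset.mem_univ, true_and, mem_fib] at hp
      obtain ⟨hy, z1, z2, z3, z4⟩ := hp
      simp only [hW, Finset.mem_filter, Finset.mem_univ, true_and]
      exact ⟨by rw [← map_mul, mul_assoc, z1, mul_one, hy], z3, z4, z1, z2⟩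
    · rintro ⟨a, b⟩ hp
      simp only [hW, Finset.mem_filter, Finset.mem_univ, true_and] at hp
      obtain ⟨hg', a1, a2, b1, b2⟩ := hp
      simp only [Finset.mem_sigma, Finset.mem_filter, Finset.mem_univ, true_and, mem_fib, mul_assoc a b b,
        b1, mul_one]
      exact ⟨by rw [map_mul, hg'], b2, a1, a2⟩
    · rintro ⟨y, z⟩ hp
      simp only [Finset.mem_sigma, Finset.mem_filter, Finset.mem_univ, true_and] at hp
      simp [mul_assoc, hp.2.1]
    · rintro ⟨a, b⟩ hp
      simp only [hW, Finset.mem_filter, Finset.mem_univ, true_and] at hp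
      simp [mul_assoc, hp.2.2.2.1]
  rw [h1, Finset.card_eq_sum_card_fiberwise (f := fun p : Cen t × Cen t => π p.2) (t := pairSet g),
    Finset.sum_congr rfl fun a ha => ?_, Finset.sum_const, smul_eq_mul]
  · obtain ⟨hc1, hc2⟩ := pairSet_cls (dk k) hk a ha
    obtain ⟨-, ha1, ha2, -, hga⟩ := Finset.mem_filter.mp ha
    have hset : (W.filter fun p => π p.2 = a) =
        ((fib π (g * a)).filter fun y => y * y = 1) ×ˢ ((fib π a).filter fun y => y * y = 1) := by
      ext ⟨x, z⟩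
      simp only [hW, Finset.mem_filter, Finset.mem_univ, true_and, Finset.mem_product, mem_fib]
      constructor
      · rintro ⟨⟨e, x1, -, z1, -⟩, rfl⟩
        exact ⟨⟨by rw [← e, mul_assoc, ← map_mul, z1, map_one, mul_one], x1⟩, rfl, z1⟩
      · rintro ⟨⟨ex, x1⟩, ez, z1⟩
        refine ⟨⟨by rw [ex, ez, mul_assoc, ha1, mul_one], x1, fun e => ?_, z1, fun e => ?_⟩, ez⟩
        · rw [e, map_one] at ex; exact hga ex.symm
        · rw [e, map_one] at ez; exact ha2 ez.symm
    rw [hset, Finset.card_product]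
    change nInv π (g * a) * nInv π a = _
    rw [h.nInv_eq hc2, h.nInv_eq hc1]
  · rintro ⟨x, z⟩ hp
    simp only [hW, Finset.mem_coe, Finset.mem_filter, Finset.mem_univ, true_and] at hp
    obtain ⟨e, x1, x2, z1, z2⟩ := hp
    have hga : g * π z = π x := by rw [← e, mul_assoc, ← map_mul π z, z1, map_one, mul_one]
    have hne : ∀ w : Cen t, w * w = 1 → w ≠ 1 → π w ≠ 1 := fun w w1 w2 ew =>
      w2 (h.eq_one_of_two_pow ew (j := 1) (by rw [pow_one, sq, w1]))
    simp only [Finset.mem_coe, pairSet, Finset.mem_filter, Finset.mem_univ, true_and, hga]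
    exact ⟨by rw [← map_mul, z1, map_one], hne z z1 z2, by rw [← map_mul, x1, map_one], hne x x1 x2⟩

set_option maxHeartbeats 2000000 in
/-- The order formula, with a rational character of degree twelve or ten. -/
theorem data [IsSimpleGroup G] :
    ∃ χ : IrrCharacter G, (∀ k : ℕ, k.Coprime (Nat.card G) → ∀ x, (χ : G → ℂ) (x ^ k) = (χ : G → ℂ) x) ∧
      (∀ x : Cen t, π x = -1 → (χ : G → ℂ) (x : G) = (χ : G → ℂ) t) ∧
      ((Nat.card G = 5616 * Nat.card π.ker * nInv π (repU 5) ^ 2 ∧ (χ : G → ℂ) 1 = 12 ∧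
          (χ : G → ℂ) t = 4 ∧ ∃ z : ℤ, av π (χ : G → ℂ) 1 = z ∧ (8 : ℤ) ∣ z + 4) ∨
        (Nat.card G = 7920 * Nat.card π.ker * nInv π (repU 5) ^ 2 ∧ (χ : G → ℂ) 1 = 10 ∧
          (χ : G → ℂ) t = 2)) := by
  classical
  have h' := h
  clear h
  haveI : Fact (Nat.Prime 2) := ⟨Nat.prime_two⟩
  obtain ⟨M, hM⟩ := exists_isPModular Nat.prime_two
  have hcl : ∀ x : G, orderOf x = 2 → IsConj x t := fun x hx => h'.one_class hx
  obtain ⟨ζ, hζ⟩ := IsAlgClosed.exists_pow_nat_eq (-1 : ℂ) (n := 4) (by norm_num)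
  have hζc : conj ζ = -ζ ^ 3 := by
    have h8 : ζ ^ 8 = 1 := by rw [show ζ ^ 8 = (ζ ^ 4) ^ 2 by ring, hζ]; norm_num
    have hn : ‖ζ‖ = 1 := Complex.norm_eq_one_of_pow_eq_one h8 (by norm_num)
    rw [← Complex.inv_eq_conj hn]
    refine inv_eq_of_mul_eq_one_right ?_
    linear_combination -hζ
  set s := ζ + ζ ^ 3 with hs
  have hsq : s * s = -2 := by rw [hs]; linear_combination (ζ ^ 2 + 2) * hζ
  have hsc : conj s = -s := by
    rw [hs, map_add, map_pow, hζc]; linear_combination (-ζ ^ 5 + ζ) * hζ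
  choose D0 n hD0' hn hT hU hP h80 using fun χ : IrrCharacter G =>
    coeffs (av_isCharacter h'.surj χ.2.isCharacter) hζ hζc
  choose Dn hDn0 hDn using fun χ : IrrCharacter G => χ.2.exists_degree
  set D : IrrCharacter G → ℤ := fun χ => (Dn χ : ℤ) with hDdef
  have hD0 : ∀ χ, 0 < D χ := fun χ => by
    show (0 : ℤ) < (Dn χ : ℤ)
    exact_mod_cast hDn0 χ
  have hD : ∀ χ : IrrCharacter G, (χ : G → ℂ) 1 = D χ := fun χ => by rw [hDn χ]; simp [hDdef]
  set v : IrrCharacter G → Fin 5 → ℂ := fun χ k => av π (χ : G → ℂ) (repU (dk k)) with hv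
  have hn : ∀ χ i, (n χ i : ℂ) = ∑ k, cf s i k * v χ k := hn
  have havcls : ∀ (χ : IrrCharacter G) (g : GL23),
      av π (χ : G → ℂ) g = valC (av π (χ : G → ℂ)) (cls (g : Mat)) := fun χ g =>
    apply_cls (av_isCharacter h'.surj χ.2.isCharacter).isClassFunction g
  -- column orthogonality
  have hcol : ∀ k l, ∑ χ : IrrCharacter G, v χ k * conj (v χ l) =
      if k = l then ((![48, 6, 8, 8, 8] k : ℕ) : ℂ) else 0 := by
    intro k l
    by_cases e : k = l
    · subst e
      rw [if_pos rfl, h'.sum_av_self (exc_dk k), card_cent_rep]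
      fin_cases k <;> rfl
    · rw [if_neg e, h'.sum_av_ne (exc_dk k) (exc_dk l) fun c => e (dk_injective (by
        have := cls_eq_of_isConj c
        rwa [cls_repU, cls_repU] at this))]
  have hgram : ∀ i j, ((∑ χ, n χ i * n χ j : ℤ) : ℂ) =
      ∑ k, cf s i k * conj (cf s j k) * ((![48, 6, 8, 8, 8] k : ℕ) : ℂ) := by
    intro i j
    push_cast
    calc ∑ χ, (n χ i : ℂ) * (n χ j : ℂ)
        = ∑ χ : IrrCharacter G, (∑ k, cf s i k * v χ k) * conj (∑ l, cf s j l * v χ l) := by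
          refine Finset.sum_congr rfl fun χ _ => ?_
          rw [← hn χ i, ← hn χ j, map_intCast]
      _ = ∑ k, ∑ l, cf s i k * conj (cf s j l) * ∑ χ : IrrCharacter G, v χ k * conj (v χ l) := by
          simp only [map_sum, map_mul]
          simp_rw [Finset.sum_mul_sum]
          rw [Finset.sum_comm]
          refine Finset.sum_congr rfl fun k _ => ?_
          rw [Finset.sum_comm]
          refine Finset.sum_congr rfl fun l _ => ?_
          rw [Finset.mul_sum]
          exact Finset.sum_congr rfl fun χ _ => by ring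
      _ = _ := by
          refine Finset.sum_congr rfl fun k _ => ?_
          simp only [hcol, mul_ite, mul_zero, Finset.sum_ite_eq, Finset.mem_univ, if_true]
  have gram : ∀ (i j : Fin 5) (c : ℤ),
      ∑ k, cf s i k * conj (cf s j k) * ((![48, 6, 8, 8, 8] k : ℕ) : ℂ) = (c : ℂ) →
        ∑ χ, n χ i * n χ j = c := by
    intro i j c h
    exact_mod_cast (hgram i j).trans h
  have hzero : ∀ i, ∑ χ, n χ i * D χ = 0 := by
    intro i
    have h : ((∑ χ, n χ i * D χ : ℤ) : ℂ) = 0 := by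
      push_cast
      calc ∑ χ, (n χ i : ℂ) * (D χ : ℂ)
          = ∑ χ : IrrCharacter G, (∑ k, cf s i k * v χ k) * conj ((χ : G → ℂ) 1) := by
            refine Finset.sum_congr rfl fun χ _ => ?_
            rw [← hn χ i, hD, map_intCast]
        _ = ∑ k, cf s i k * ∑ χ : IrrCharacter G, v χ k * conj ((χ : G → ℂ) 1) := by
            simp only [Finset.sum_mul, Finset.mul_sum]
            rw [Finset.sum_comm]
            exact Finset.sum_congr rfl fun k _ => Finset.sum_congr rfl fun χ _ => by ring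
        _ = 0 := by
            refine Finset.sum_eq_zero fun k _ => ?_
            rw [h'.sum_av_one (exc_dk k), mul_zero]
    exact_mod_cast h
  set one : IrrCharacter G := ⟨fun _ => 1, isIrrCharacter_one⟩ with hone
  have hD1 : D one = 1 := by
    have := (hD one).symm; simp only [hone] at this; exact_mod_cast this
  have hn1 : ∀ i, n one i = ![0, 1, 0, 0, 0] i := by
    intro i
    have h := hn one i
    simp only [show ∀ k, v one k = 1 from fun k => av_of_const h'.surj fun _ _ => rfl, mul_one] at h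
    fin_cases i <;>
      simp only [cf, Fin.sum_univ_five, Fin.zero_eta, Fin.mk_one, Fin.reduceFinMk, Matrix.cons_val] at h ⊢ <;>
      ring_nf at h <;> exact_mod_cast h
  obtain ⟨A, B, P, E, p, q, r, α, β, δ, ε, ω, hα, hβ, hδ, hε, hω, hDq, hDr, hnod, vA, vB, vP, vE, vp, vq, vr,
    hv0⟩ := decomposition one D hD0 (fun χ => n χ 0) (fun χ => n χ 1) (fun χ => n χ 2) (fun χ => n χ 3)
      (fun χ => n χ 4)
      (gram 0 0 2 (by
        simp [cf, Fin.sum_univ_five, hsc, Complex.conj_ofNat]; linear_combination (-1 : ℂ) * hsq))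
      (gram 3 3 2 (by
        simp [cf, Fin.sum_univ_five, hsc, Complex.conj_ofNat]; linear_combination (-1 / 4 : ℂ) * hsq))
      (gram 0 3 (-1) (by
        simp [cf, Fin.sum_univ_five, hsc, Complex.conj_ofNat]; linear_combination (1 / 2 : ℂ) * hsq))
      (gram 1 1 3 (by simp [cf, Fin.sum_univ_five, Complex.conj_ofNat]; norm_num))
      (gram 2 2 3 (by simp [cf, Fin.sum_univ_five, Complex.conj_ofNat]; norm_num))
      (gram 4 4 4 (by simp [cf, Fin.sum_univ_five, Complex.conj_ofNat]; norm_num))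
      (gram 0 1 0 (by simp [cf, Fin.sum_univ_five, Complex.conj_ofNat]; ring))
      (gram 3 1 0 (by simp [cf, Fin.sum_univ_five, Complex.conj_ofNat]; ring))
      (gram 0 2 0 (by simp [cf, Fin.sum_univ_five, Complex.conj_ofNat]; ring))
      (gram 3 2 0 (by simp [cf, Fin.sum_univ_five, Complex.conj_ofNat]; ring))
      (gram 0 4 0 (by simp [cf, Fin.sum_univ_five, Complex.conj_ofNat]))
      (gram 3 4 1 (by simp [cf, Fin.sum_univ_five, Complex.conj_ofNat]; norm_num))
      (gram 1 2 1 (by simp [cf, Fin.sum_univ_five, Complex.conj_ofNat]; norm_num))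
      (gram 1 4 (-2) (by simp [cf, Fin.sum_univ_five, Complex.conj_ofNat]; norm_num))
      (gram 2 4 (-2) (by simp [cf, Fin.sum_univ_five, Complex.conj_ofNat]; norm_num))
      (hzero 0) (hzero 3) (hzero 2) (by simp [vec, hn1])
  simp only [vec, Prod.mk.injEq] at vA vB vP vE vp vq vr hv0
  obtain ⟨hA0, hA1, hA2, hA3, hA4⟩ := vA
  obtain ⟨hB0, hB1, hB2, hB3, hB4⟩ := vB
  obtain ⟨hP0, hP1, hP2, hP3, hP4⟩ := vP
  obtain ⟨hE0, hE1, hE2, hE3, hE4⟩ := vE
  obtain ⟨hp0, hp1, hp2, hp3, hp4⟩ := vp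
  obtain ⟨hq0, hq1, hq2, hq3, hq4⟩ := vq
  obtain ⟨hr0, hr1, hr2, hr3, hr4⟩ := vr
  set S : Finset (IrrCharacter G) := [one, A, B, P, E, p, q, r].toFinset with hS
  have hout : ∀ χ ∉ S, ∀ i, n χ i = 0 := by
    intro χ hχ i
    obtain ⟨h0, h1, h2, h3, h4⟩ := hv0 χ (by simpa [hS] using hχ)
    fin_cases i <;> assumption
  have hsum : ∀ F : IrrCharacter G → ℚ, (∀ χ, (∀ i, n χ i = 0) → F χ = 0) →
      ∑ χ, F χ = F one + F A + F B + F P + F E + F p + F q + F r := by
    intro F hF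
    rw [← Finset.sum_subset (Finset.subset_univ S) fun χ _ hχ => hF χ (hout χ hχ), hS,
      List.sum_toFinset _ hnod]
    simp only [List.map_cons, List.map_nil, List.sum_cons, List.sum_nil]
    ring
  set a := α * D A with haE
  set b := β * D B with hbE
  set d := δ * D P with hdE
  set e' := ε * D E with heE
  set x := ω * D p with hxE
  -- degree relations
  have hz : ∀ i, (n one i + n A i * D A + n B i * D B + n P i * D P + n E i * D E + n p i * D p +
      n q i * D q + n r i * D r) = 0 := by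
    intro i
    have h := hsum (fun χ => ((n χ i * D χ : ℤ) : ℚ)) (fun χ h => by simp [h i])
    rw [← Int.cast_sum, hzero i, hD1, mul_one] at h
    have h' : (0 : ℤ) = n one i + n A i * D A + n B i * D B + n P i * D P + n E i * D E + n p i * D p +
        n q i * D q + n r i * D r := by exact_mod_cast h
    omega
  have r1 : 1 + a + b = 0 := by
    have h := hz 1
    rw [hn1, hA1, hB1, hP1, hE1, hp1, hq1, hr1] at h
    simp only [Matrix.cons_val, zero_mul, add_zero] at h
    rw [haE, hbE]; linarith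
  have r2 : a + d + e' = 0 := by
    have h := hz 2
    rw [hn1, hA2, hB2, hP2, hE2, hp2, hq2, hr2] at h
    simp only [Matrix.cons_val, zero_mul, add_zero, zero_add] at h
    rw [haE, hdE, heE]; linarith
  have r3 : x = a + b + d := by
    have h := hz 4
    rw [hn1, hA4, hB4, hP4, hE4, hp4, hq4, hr4, hDr] at h
    simp only [Matrix.cons_val, zero_mul, add_zero, zero_add] at h
    rw [haE, hbE, hdE, hxE]; linarith
  -- the principal block
  obtain ⟨y₂, hy₂⟩ := h'.surj (repU 2)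
  have hy₂r : IsPRegular 2 y₂ := (h'.regular_iff y₂).mp fun d => by
    have h3 : orderOf (π y₂) ∣ 3 := orderOf_dvd_of_pow_eq_one (by
      rw [hy₂, pow_succ, sq]; exact neg_rep_two.2)
    exact absurd (d.trans h3) (by norm_num)
  have h1r : IsPRegular 2 (1 : Cen t) := by simp [IsPRegular]
  have hout' : ∀ χ : IrrCharacter G, χ ∉ principalBlock M G → ∀ k, v χ k = 0 := by
    intro χ hχ k
    have e1 : av π (χ : G → ℂ) (-1) = 0 := by
      have e := h'.av_section hM χ h1r
      rwa [map_one, if_neg hχ] at e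
    have e3 : av π (χ : G → ℂ) (repU 3) = 0 := by
      have e := h'.av_section hM χ hy₂r
      rwa [hy₂, neg_rep_two.1, if_neg hχ] at e
    have e467 : ∀ c ∈ ([4, 6, 7] : List (Fin 8)), valC (av π (χ : G → ℂ)) c = 0 := fun c hc => by
      obtain ⟨j, hj, rfl⟩ := cls_rho c hc
      rw [← havcls]
      exact (h'.av_rho hM χ hj).2 hχ
    fin_cases k
    · exact e1
    · exact e3
    · exact e467 4 (by simp)
    · exact e467 6 (by simp)
    · exact e467 7 (by simp)
  have hnB : ∀ χ : IrrCharacter G, χ ∉ principalBlock M G → ∀ i, n χ i = 0 := fun χ hχ i => by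
    have e := hn χ i
    simp only [hout' χ hχ, mul_zero, Finset.sum_const_zero] at e
    exact_mod_cast e
  have hXt : ∀ χ : IrrCharacter G, χ ∈ principalBlock M G → ∀ x : Cen t, π x = -1 →
      (χ : G → ℂ) (x : G) = tv (n χ) := by
    intro χ hχ x hx
    have hr : IsPRegular 2 (tc t * x) := (h'.regular_iff _).mp (by
      simp [IsPRegular, map_mul, h'.pi_tc, hx])
    have e := h'.av_section hM χ hr
    rw [if_pos hχ, map_mul, h'.pi_tc, hx, neg_mul_neg, mul_one, coe_mul, coe_tc, ← mul_assoc,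
      show t * t = 1 from congrArg Subtype.val h'.tc_sq, one_mul] at e
    rw [← e, havcls, cls_neg_one, hT]
  have hXr : ∀ χ : IrrCharacter G, χ ∈ principalBlock M G → ∀ x : Cen t,
      cls (π x : Mat) ∈ ([4, 6, 7] : List (Fin 8)) →
      (χ : G → ℂ) (x : G) = valC (av π (χ : G → ℂ)) (cls (π x : Mat)) := by
    intro χ hχ x hx
    obtain ⟨j, hj, hje⟩ := cls_rho _ hx
    obtain ⟨c, hc⟩ := isConj_iff.mp ((isConj_repU (π x)).symm.trans (hje ▸ isConj_repU (rho j)))
    obtain ⟨z, rfl⟩ := h'.surj c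
    rw [← hje, ← havcls, ← (h'.av_rho hM χ hj).1 hχ (z * x * z⁻¹)
      (mem_fib.mpr (by rw [map_mul, map_mul, map_inv, hc])), coe_mul, coe_mul, coe_inv, χ.2.isClassFunction]
  have hW : ∀ χ : IrrCharacter G, valC (av π (χ : G → ℂ)) 4 = wv (n χ) := fun χ => by
    have e1 := hn χ 1; have e2 := hn χ 2; have e4 := hn χ 4
    simp only [cf, hv, dk, Fin.sum_univ_five, Matrix.cons_val] at e1 e2 e4
    rw [wv, valC]; push_cast; linear_combination -2 * e4 - e1 - e2
  obtain ⟨r₀, hr₀, hr8⟩ := h'.exists_rho hM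
  have h8 : ∀ χ : IrrCharacter G, χ ∈ principalBlock M G →
      (8 : ℤ) ∣ D χ + tv (n χ) + 2 * wv (n χ) + 4 * (n χ 1 - n χ 2) := by
    intro χ hχ
    let φ : Multiplicative (ZMod 8) →* G :=
      ⟨⟨fun j => ((r₀ ^ j.toAdd.val : Cen t) : G), by simp⟩, fun a b => by
        show ((r₀ ^ (a.toAdd + b.toAdd).val : Cen t) : G) = (r₀ ^ a.toAdd.val : Cen t) * (r₀ ^ b.toAdd.val : Cen t)
        rw [← coe_mul, ← pow_add, ZMod.val_add, ← pow_eq_pow_mod _ hr8]⟩
    obtain ⟨c, hc⟩ := (χ.2.isCharacter.comp φ).exists_nat_classInner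
      (isIrrCharacter_linear (1 : Multiplicative (ZMod 8) →* ℂˣ)).isCharacter
    simp only [classInner, MonoidHom.one_apply, Units.val_one, map_one, mul_one,
      Nat.card_eq_fintype_card, Fintype.card_multiplicative, ZMod.card] at hc
    rw [← Fintype.sum_equiv (Multiplicative.ofAdd : ZMod 8 ≃ _)
      (fun j => (χ : G → ℂ) ((r₀ ^ j.val : Cen t) : G)) _ (fun j => rfl),
      inv_mul_eq_iff_eq_mul₀ (by norm_num)] at hc
    have hval : ∀ i : Fin 8, i ≠ 0 → (χ : G → ℂ) ((r₀ ^ (i : ℕ) : Cen t) : G) =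
        valC (av π (χ : G → ℂ)) (![0, 6, 4, 6, 1, 7, 4, 7] i) := by
      intro i hi
      have hπi : π (r₀ ^ (i : ℕ)) = rho i := by rw [map_pow, hr₀, rho, rho, pow_one]
      by_cases h4 : i = 4
      · subst h4
        rw [hXt χ hχ _ (by rw [hπi]; decide +kernel), ← hT χ]
        rfl
      · rw [hXr χ hχ _ (by
            rw [hπi, rho_cls]
            exact rho_list i hi h4), hπi, rho_cls]
    have hc' : ∑ i : Fin 8, (χ : G → ℂ) ((r₀ ^ (i : ℕ) : Cen t) : G) = 8 * (c : ℂ) := by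
      rw [show ((8 : ℕ) : ℂ) = 8 by norm_num] at hc
      exact hc
    rw [Fin.sum_univ_eight, show ((r₀ ^ ((0 : Fin 8) : ℕ) : Cen t) : G) = 1 by simp, hD,
      hval 1 (by decide), hval 2 (by decide), hval 3 (by decide), hval 4 (by decide),
      hval 5 (by decide), hval 6 (by decide), hval 7 (by decide)] at hc'
    simp only [Matrix.cons_val, hT, hW] at hc'
    refine ⟨c, ?_⟩
    have : (((D χ + tv (n χ) + 2 * wv (n χ) + 4 * (n χ 1 - n χ 2)) : ℤ) : ℂ) = ((8 * (c : ℤ) : ℤ) : ℂ) := by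
      have hP' := hP χ
      push_cast at hP' ⊢
      linear_combination hc' - 2 * hP'
    exact_mod_cast this
  -- congruences
  have hmemB : ∀ χ : IrrCharacter G, (∃ i, n χ i ≠ 0) → χ ∈ principalBlock M G := fun χ ⟨i, hi⟩ => by
    by_contra hn'
    exact hi (hnB χ hn' i)
  have hunit : ∀ {σ : ℤ}, (σ = 1 ∨ σ = -1) → σ ≠ 0 := fun h => by rcases h with rfl | rfl <;> norm_num
  have hAB' : A ∈ principalBlock M G := hmemB A ⟨1, by rw [hA1]; exact hunit hα⟩
  have hPB' : P ∈ principalBlock M G := hmemB P ⟨2, by rw [hP2]; exact hunit hδ⟩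
  have hrB' : r ∈ principalBlock M G := hmemB r ⟨4, by rw [hr4]; exact hunit hω⟩
  have ca : a % 8 = 4 := by
    have h := h8 A hAB'
    simp only [tv, wv, hA0, hA1, hA2, hA3, hA4] at h
    rw [haE]; rcases hα with h' | h' <;> rw [h'] at h ⊢ <;> omega
  have cd : d % 8 = 3 := by
    have h := h8 P hPB'
    simp only [tv, wv, hP0, hP1, hP2, hP3, hP4] at h
    rw [hdE]; rcases hδ with h' | h' <;> rw [h'] at h ⊢ <;> omega
  -- the count of pairs of involutions
  set I := involFinset G with hIdef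
  have hmemI : ∀ z, z ∈ I ↔ orderOf z = 2 := fun z => by
    rw [mem_involFinset, orderOf_eq_prime_iff (p := 2), sq, and_comm]
  have hIcard : I.card * (48 * Nat.card π.ker) = Nat.card G := by
    have hset : (I : Set G) = MulAction.orbit (ConjAct G) t := by
      ext z
      rw [Finset.mem_coe, hmemI, ConjAct.mem_orbit_conjAct]
      exact ⟨fun h => hcl z h, fun h => by
        obtain ⟨c, hc⟩ := isConj_iff.mp h
        rw [← MulEquiv.orderOf_eq (MulAut.conj c), MulAut.conj_apply, hc, h'.ht]⟩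
    have hst : Nat.card (MulAction.stabilizer (ConjAct G) t) = 48 * Nat.card π.ker := by
      rw [ConjAct.stabilizer_eq_centralizer, ← h'.card_cen]
      exact Nat.card_congr (Equiv.subtypeEquiv (ConjAct.ofConjAct).toEquiv fun z => by
        simp only [Subgroup.mem_centralizer_iff, Set.mem_singleton_iff, forall_eq,
          MulEquiv.toEquiv_eq_coe, EquivLike.coe_coe]
        exact ⟨fun h => congrArg ConjAct.ofConjAct h, fun h => congrArg ConjAct.toConjAct h⟩)
    rw [← hst, ← Nat.card_coe_set_eq (I : Set G) |>.trans (Set.ncard_coe_finset I), hset, ← Nat.card_prod,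
      Nat.card_congr (MulAction.orbitProdStabilizerEquivGroup (ConjAct G) t),
      Nat.card_congr (ConjAct.ofConjAct).toEquiv]
  set f : G → ℂ := fun g => if g ∈ I then 1 else 0 with hf
  have hfc : IsClassFunction G f := by
    intro g k
    have : k * g * k⁻¹ ∈ I ↔ g ∈ I := by
      rw [hmemI, hmemI, ← MulAut.conj_apply, MulEquiv.orderOf_eq]
    exact if_congr this rfl rfl
  have hconst : ∀ χ : IrrCharacter G, ∀ z ∈ I, (χ : G → ℂ) z = (χ : G → ℂ) t := fun χ z hz => by
    obtain ⟨c, hc⟩ := isConj_iff.mp (hcl z ((hmemI z).mp hz))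
    rw [← hc, χ.2.isClassFunction]
  have hsumI : ∀ χ : IrrCharacter G, ∑ z ∈ I, (χ : G → ℂ) z = (I.card : ℂ) * (χ : G → ℂ) t := fun χ => by
    rw [Finset.sum_congr rfl (hconst χ), Finset.sum_const, nsmul_eq_mul]
  have hinner : ∀ χ : IrrCharacter G,
      classInner f (χ : G → ℂ) = (Nat.card G : ℂ)⁻¹ * ((I.card : ℂ) * conj ((χ : G → ℂ) t)) := by
    intro χ
    simp only [classInner, hf, ite_mul, one_mul, zero_mul, Finset.sum_ite_mem, Finset.univ_inter]
    congr 1
    rw [Finset.sum_congr rfl (fun z hz => by rw [hconst χ z hz]), Finset.sum_const, nsmul_eq_mul]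
  have hvt : ∀ (χ : IrrCharacter G) k, v χ k * ((χ : G → ℂ) t * conj ((χ : G → ℂ) t)) =
      v χ k * ((tv (n χ) : ℂ) * tv (n χ)) := by
    intro χ k
    by_cases hχ : χ ∈ principalBlock M G
    · rw [show (χ : G → ℂ) t = tv (n χ) from hXt χ hχ (tc t) h'.pi_tc, map_intCast]
    · rw [hout' χ hχ, zero_mul, zero_mul]
  set I₅ := nInv π (repU 5) with hI5
  set m := Nat.card π.ker with hmdef
  have hmain : ∀ k, (dk k = 1 ∨ dk k = 3 ∨ dk k = 6 ∨ dk k = 7) →
      ((pairSet (repU (dk k))).card : ℂ) * 2304 * ((m : ℂ) * I₅ * I₅) =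
      (Nat.card G : ℂ) * ∑ χ : IrrCharacter G, v χ k * (tv (n χ) : ℂ) * tv (n χ) / (D χ : ℂ) := by
    intro k hk
    have hpc := congrArg (fun N : ℕ => (N : ℂ)) (h'.pair_count hk)
    simp only [Nat.cast_sum, Nat.cast_mul] at hpc
    have h2 : ∀ z, f z = ∑ χ : IrrCharacter G, classInner f (χ : G → ℂ) * (χ : G → ℂ) z := fun z => by
      conv_lhs => rw [eq_sum_classInner hfc]
      simp
    have hG0 : (Nat.card G : ℂ) ≠ 0 := card_cast_ne_zero
    have hm0 : (m : ℂ) ≠ 0 := ker_cast_ne_zero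
    have hI : (I.card : ℂ) * (48 * m) = (Nat.card G : ℂ) := by exact_mod_cast hIcard
    have hI0 : (I.card : ℂ) ≠ 0 := fun h => hG0 (by rw [← hI, h, zero_mul])
    have e : ∀ y : Cen t, ((I.filter fun z => (y : G) * z ∈ I).card : ℂ) =
        ∑ χ : IrrCharacter G, (χ : G → ℂ) (y : G) *
          ((χ : G → ℂ) t * conj ((χ : G → ℂ) t) * ((I.card : ℂ) * I.card) / ((Nat.card G : ℂ) * D χ)) := by
      intro y
      rw [← Finset.sum_boole, show (∑ z ∈ I, if (y : G) * z ∈ I then (1 : ℂ) else 0) =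
        ∑ z ∈ I, f ((y : G) * z) from rfl, Finset.sum_congr rfl fun z _ => h2 _, Finset.sum_comm]
      refine Finset.sum_congr rfl fun χ _ => ?_
      rw [← Finset.mul_sum, sum_involFinset_char χ.2, hsumI, hinner, hD]
      field_simp
    simp only [← hIdef] at hpc
    simp only [e] at hpc
    rw [Finset.sum_comm] at hpc
    simp only [← Finset.sum_mul] at hpc
    have hav : ∀ χ : IrrCharacter G, ∑ y ∈ fib π (repU (dk k)), (χ : G → ℂ) (y : G) = (m : ℂ) * v χ k := by
      intro χ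
      simp only [hv, av, ← hmdef]
      rw [← mul_assoc, mul_inv_cancel₀ hm0, one_mul]
    simp only [hav] at hpc
    rw [show ((pairSet (repU (dk k))).card : ℂ) * 2304 * ((m : ℂ) * I₅ * I₅) =
      2304 * m * (((pairSet (repU (dk k))).card : ℂ) * ((I₅ : ℂ) * I₅)) by ring, ← hpc, Finset.mul_sum,
      Finset.mul_sum]
    refine Finset.sum_congr rfl fun χ _ => ?_
    rw [mul_assoc (v χ k) (tv (n χ) : ℂ), ← hvt χ k, ← hI]
    have hD' : (D χ : ℂ) ≠ 0 := Int.cast_ne_zero.mpr (hD0 χ).ne'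
    field_simp
    ring
  obtain ⟨c1, c3, c6, c7⟩ := card_pairs
  have k0 := hmain 0 (Or.inl rfl); have k1 := hmain 1 (Or.inr (Or.inl rfl))
  have k3 := hmain 3 (Or.inr (Or.inr (Or.inl rfl))); have k4 := hmain 4 (Or.inr (Or.inr (Or.inr rfl)))
  rw [show dk 0 = 1 from rfl, pairSet, c1] at k0
  rw [show dk 1 = 3 from rfl, pairSet, c3] at k1
  rw [show dk 3 = 6 from rfl, pairSet, c6] at k3
  rw [show dk 4 = 7 from rfl, pairSet, c7] at k4
  have hvT : ∀ χ, v χ 0 = (tv (n χ) : ℂ) := fun χ => hT χ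
  have hvU : ∀ χ, v χ 1 = (uv (n χ) : ℂ) := fun χ => hU χ
  have hvP : ∀ χ, v χ 3 + v χ 4 = ((2 * (n χ 1 - n χ 2) : ℤ) : ℂ) := fun χ => hP χ
  simp only [hvT] at k0
  simp only [hvU] at k1
  obtain ⟨μ, hμdef⟩ : ∃ μ : ℚ, μ = (m : ℚ) * I₅ * I₅ := ⟨_, rfl⟩
  have K0 : (27648 : ℚ) * μ = (Nat.card G : ℚ) *
      ∑ χ, (tv (n χ) : ℚ) * tv (n χ) * tv (n χ) / (D χ : ℚ) := by
    have h : (((27648 : ℚ) * μ : ℚ) : ℂ) = (((Nat.card G : ℚ) *
      ∑ χ, (tv (n χ) : ℚ) * tv (n χ) * tv (n χ) / (D χ : ℚ) : ℚ) : ℂ) := by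
      rw [hμdef]; push_cast; rw [← k0]; norm_num
    exact_mod_cast h
  have K1 : (13824 : ℚ) * μ = (Nat.card G : ℚ) *
      ∑ χ, (uv (n χ) : ℚ) * tv (n χ) * tv (n χ) / (D χ : ℚ) := by
    have h : (((13824 : ℚ) * μ : ℚ) : ℂ) = (((Nat.card G : ℚ) *
      ∑ χ, (uv (n χ) : ℚ) * tv (n χ) * tv (n χ) / (D χ : ℚ) : ℚ) : ℂ) := by
      rw [hμdef]; push_cast; rw [← k1]; norm_num
    exact_mod_cast h
  have K2 : (0 : ℚ) = (Nat.card G : ℚ) *
      ∑ χ, ((2 * (n χ 1 - n χ 2) : ℤ) : ℚ) * tv (n χ) * tv (n χ) / (D χ : ℚ) := by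
    have h : ((0 : ℚ) : ℂ) = (((Nat.card G : ℚ) *
      ∑ χ, ((2 * (n χ 1 - n χ 2) : ℤ) : ℚ) * tv (n χ) * tv (n χ) / (D χ : ℚ) : ℚ) : ℂ) := by
      rw [Rat.cast_mul, Rat.cast_sum, Rat.cast_zero]
      simp only [Rat.cast_div, Rat.cast_mul, Rat.cast_intCast, Rat.cast_natCast, ← hvP, add_mul, add_div,
        Finset.sum_add_distrib, mul_add]
      rw [← k3, ← k4]; simp
    exact_mod_cast h
  rw [hsum _ (fun χ h => by simp [tv, h])] at K0 K1 K2
  simp only [tv, uv, hn1, Matrix.cons_val, hD1, hA0, hA1, hA2, hA3, hA4, hB0, hB1, hB2, hB3, hB4, hP0, hP1,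
    hP2, hP3, hP4, hE0, hE1, hE2, hE3, hE4, hp0, hp1, hp2, hp3, hp4, hq0, hq1, hq2, hq3, hq4, hr0, hr1, hr2,
    hr3, hr4, hDq, hDr] at K0 K1 K2
  have hdiv : ∀ {σ : ℤ} (k : ℚ) (z : ℤ), (σ = 1 ∨ σ = -1) →
      k * (σ : ℚ) / (z : ℚ) = k / ((σ * z : ℤ) : ℚ) := by
    rintro σ k z (rfl | rfl) <;> push_cast <;> simp [div_neg, neg_div]
  have K0' : (27648 : ℚ) * μ = (Nat.card G : ℚ) *
      (1 + 64 / (a : ℚ) + 27 / (b : ℚ) + 27 / (d : ℚ) + 1 / (e' : ℚ) - 8 / (x : ℚ)) := by
    rw [haE, hbE, hdE, heE, hxE, ← hdiv 64 _ hα, ← hdiv 27 _ hβ, ← hdiv 27 _ hδ, ← hdiv 1 _ hε,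
      ← hdiv 8 _ hω, K0]
    congr 1
    rcases hα with h | h <;> rcases hβ with h' | h' <;> rw [h, h'] <;>
      rcases hδ with h | h <;> rcases hε with h' | h' <;> rw [h, h'] <;>
      rcases hω with h | h <;> rw [h] <;> push_cast <;> ring
  have K1' : (13824 : ℚ) * μ = (Nat.card G : ℚ) * (1 + 16 / (a : ℚ) + 1 / (e' : ℚ) + 4 / (x : ℚ)) := by
    rw [haE, heE, hxE, ← hdiv 16 _ hα, ← hdiv 1 _ hε, ← hdiv 4 _ hω, K1]
    congr 1
    rcases hα with h | h <;> rcases hβ with h' | h' <;> rw [h, h'] <;>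
      rcases hδ with h | h <;> rcases hε with h' | h' <;> rw [h, h'] <;>
      rcases hω with h | h <;> rw [h] <;> push_cast <;> ring
  have K2' : (1 : ℚ) + 9 / (b : ℚ) - 9 / (d : ℚ) - 1 / (e' : ℚ) = 0 := by
    rcases mul_eq_zero.mp K2.symm with h | h
    · exact absurd h (Nat.cast_ne_zero.mpr Nat.card_pos.ne')
    rw [hbE, hdE, heE, ← hdiv 9 _ hβ, ← hdiv 9 _ hδ, ← hdiv 1 _ hε]
    refine mul_left_cancel₀ (two_ne_zero (α := ℚ)) ?_
    rw [mul_zero, ← h]
    rcases hα with h | h <;> rcases hβ with h' | h' <;> rw [h, h'] <;>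
      rcases hδ with h | h <;> rcases hε with h' | h' <;> rw [h, h'] <;>
      rcases hω with h | h <;> rw [h] <;> push_cast <;> ring
  -- a nontrivial linear character is impossible
  have hEne : E ≠ one := by
    simp only [List.nodup_cons, List.mem_cons, List.not_mem_nil, not_or] at hnod
    exact fun h => hnod.1.2.2.2.1 h.symm
  have he1 : e' ≠ 1 := by
    intro h
    have hDE : D E = 1 := by
      have := hD0 E
      rw [heE] at h
      rcases hε with h' | h' <;> rw [h'] at h <;> omega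
    obtain ⟨φ, hφ⟩ := exists_hom_of_degree_one E.2.isCharacter (by rw [hD, hDE, Int.cast_one])
    refine hEne (Subtype.ext (funext fun g => ?_))
    have hk : commutator G ≤ φ.ker := by
      rw [commutator_eq_closure, closure_le]
      rintro _ ⟨a, b, rfl⟩
      rw [SetLike.mem_coe, MonoidHom.mem_ker, map_commutatorElement, commutatorElement_eq_one_iff_commute]
      exact Commute.all _ _
    rw [h'.perfect] at hk
    show (E : G → ℂ) g = 1
    rw [hφ]
    simp [MonoidHom.mem_ker.mp (hk (mem_top g))]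
  -- solve
  have hne : ∀ {σ z : ℤ}, (σ = 1 ∨ σ = -1) → 0 < z → σ * z ≠ 0 := fun {σ z} h hz => by
    rcases h with rfl | rfl <;> omega
  have na : a ≠ 0 := hne hα (hD0 A)
  have nd : d ≠ 0 := hne hδ (hD0 P)
  have ne' : e' ≠ 0 := hne hε (hD0 E)
  obtain hb : b = -1 - a := by omega
  obtain he : e' = -a - d := by omega
  obtain hx : x = d - 1 := by omega
  have qa : (a : ℚ) ≠ 0 := Int.cast_ne_zero.mpr na
  have qd : (d : ℚ) ≠ 0 := Int.cast_ne_zero.mpr nd
  have qb : (b : ℚ) ≠ 0 := Int.cast_ne_zero.mpr (by omega)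
  have qe : (e' : ℚ) ≠ 0 := Int.cast_ne_zero.mpr ne'
  have qx : (x : ℚ) ≠ 0 := Int.cast_ne_zero.mpr (by omega)
  have E1 : b * d * e' + 9 * d * e' - 9 * b * e' - b * d = 0 := by
    have h : ((b * d * e' + 9 * d * e' - 9 * b * e' - b * d : ℤ) : ℚ) = 0 := by
      rw [← mul_zero ((b : ℚ) * d * e'), ← K2']
      push_cast
      field_simp
    exact_mod_cast h
  have K3 : 16 / (a : ℚ) + 9 / (b : ℚ) + 18 / (d : ℚ) - 8 / (x : ℚ) = 1 := by
    have hN : (Nat.card G : ℚ) ≠ 0 := Nat.cast_ne_zero.mpr Nat.card_pos.ne'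
    apply mul_left_cancel₀ hN
    linear_combination (-1 / 2 : ℚ) * K0' + K1' + (-(Nat.card G : ℚ) / 2) * K2'
  have E2 : 16 * b * d * x + 9 * a * d * x + 18 * a * b * x - 8 * a * b * d = a * b * d * x := by
    have h : ((16 * b * d * x + 9 * a * d * x + 18 * a * b * x - 8 * a * b * d : ℤ) : ℚ) =
        ((a * b * d * x : ℤ) : ℚ) := by
      push_cast
      rw [← mul_one ((a : ℚ) * b * d * x), ← K3]
      field_simp
    exact_mod_cast h
  rw [hb, he] at E1
  rw [hb, hx] at E2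
  rw [he, hx] at K1'
  -- rational characters
  have h24 : (24 : ℕ) ∣ Nat.card G := by
    refine dvd_trans ⟨2 * m, ?_⟩ (card_subgroup_dvd_card (centralizer ({t} : Set G)))
    rw [h'.card_cen]; ring
  have htw : ∀ (χ : IrrCharacter G) (k : ℕ) (hk : k.Coprime (Nat.card G)),
      n (⟨_, isIrrCharacter_comp_pow hk χ.2⟩ : IrrCharacter G) 1 = n χ 1 ∧
      n (⟨_, isIrrCharacter_comp_pow hk χ.2⟩ : IrrCharacter G) 2 = n χ 2 ∧
      n (⟨_, isIrrCharacter_comp_pow hk χ.2⟩ : IrrCharacter G) 4 = n χ 4 := by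
    intro χ k hk
    set χ' : IrrCharacter G := ⟨_, isIrrCharacter_comp_pow hk χ.2⟩ with hχ'
    have hav : ∀ g : GL23, av π (χ' : G → ℂ) g = av π (χ : G → ℂ) (g ^ k) := by
      intro g
      have hinj : Function.Injective fun x : Cen t => x ^ k := fun a b e =>
        Subtype.ext ((powBij_of_coprime hk).1 (show (a : G) ^ k = (b : G) ^ k by
          rw [← SubmonoidClass.coe_pow, ← SubmonoidClass.coe_pow]; exact congrArg Subtype.val e))
      have himg : (fib π g).image (fun x => x ^ k) = fib π (g ^ k) :=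
        Finset.eq_of_subset_of_card_le (Finset.image_subset_iff.mpr fun x hx => mem_fib.mpr (by
          rw [map_pow, mem_fib.mp hx])) (by
          rw [Finset.card_image_of_injective _ hinj, card_fib h'.surj, card_fib h'.surj])
      rw [av, av, ← himg, Finset.sum_image fun a _ b _ e => hinj e]
      rfl
    have hc24 : Nat.Coprime k 24 := hk.coprime_dvd_right h24
    obtain ⟨p1, p3, p4, p67⟩ := pow_classes ⟨k % 24, Nat.mod_lt _ (by norm_num)⟩ (by
      show Nat.gcd (k % 24) 24 = 1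
      rw [← Nat.gcd_rec, Nat.gcd_comm]; exact hc24)
    have hpw : ∀ i, v χ' i = valC (av π (χ : G → ℂ)) (cls ((repU (dk i) ^ (k % 24) : GL23) : Mat)) := fun i => by
      rw [← havcls, ← pow_eq_pow_mod k (pow_twentyfour i), ← hav]
    have q0 : v χ' 0 = v χ 0 := by rw [hpw]; exact congrArg (valC (av π (χ : G → ℂ))) p1
    have q1 : v χ' 1 = v χ 1 := by rw [hpw]; exact congrArg (valC (av π (χ : G → ℂ))) p3
    have q2 : v χ' 2 = v χ 2 := by rw [hpw]; exact congrArg (valC (av π (χ : G → ℂ))) p4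
    have q34 : v χ' 3 + v χ' 4 = v χ 3 + v χ 4 := by
      rcases p67 with ⟨u1, u2⟩ | ⟨u1, u2⟩
      · rw [hpw 3, hpw 4, show dk 3 = 6 from rfl, show dk 4 = 7 from rfl, u1, u2]; rfl
      · rw [hpw 3, hpw 4, show dk 3 = 6 from rfl, show dk 4 = 7 from rfl, u1, u2, add_comm]; rfl
    have key : ∀ i : Fin 5, i = 1 ∨ i = 2 ∨ i = 4 → n χ' i = n χ i := by
      intro i hi
      have e := hn χ' i
      have e' := hn χ i
      refine Int.cast_injective (α := ℂ) (e.trans (Eq.trans ?_ e'.symm))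
      simp only [Fin.sum_univ_five, q0, q1, q2]
      rcases hi with rfl | rfl | rfl <;> simp only [cf, Matrix.cons_val]
      · linear_combination (1 / 4 : ℂ) * q34
      · linear_combination (-1 / 4 : ℂ) * q34
      · ring
    exact ⟨key 1 (Or.inl rfl), key 2 (Or.inr (Or.inl rfl)), key 4 (Or.inr (Or.inr rfl))⟩
  have hcases : ∀ χ : IrrCharacter G, (∃ i, n χ i ≠ 0) →
      χ = one ∨ χ = A ∨ χ = B ∨ χ = P ∨ χ = E ∨ χ = p ∨ χ = q ∨ χ = r := by
    rintro χ ⟨i, hi⟩
    by_contra hne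
    exact hi (hout χ (by simpa [hS] using hne) i)
  have hone' : one ≠ A := by
    simp only [List.nodup_cons, List.mem_cons, List.not_mem_nil, not_or] at hnod
    exact hnod.1.1
  have hα0 := hunit hα; have hβ0 := hunit hβ; have hδ0 := hunit hδ; have hω0 := hunit hω
  have hratA : ∀ k : ℕ, k.Coprime (Nat.card G) → ∀ x, (A : G → ℂ) (x ^ k) = (A : G → ℂ) x := by
    intro k hk x
    obtain ⟨u1, u2, u4⟩ := htw A k hk
    generalize hg : (⟨_, isIrrCharacter_comp_pow hk A.2⟩ : IrrCharacter G) = A' at u1 u2 u4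
    have e : A' = A := by
      rw [hA1] at u1; rw [hA2] at u2; rw [hA4] at u4
      rcases hcases A' ⟨1, u1 ▸ hα0⟩ with rfl | h | rfl | rfl | rfl | rfl | rfl | rfl
      · rw [hn1] at u4; simp at u4; omega
      · exact h
      · omega
      · omega
      · omega
      · omega
      · omega
      · omega
    subst e
    exact congrFun (congrArg Subtype.val hg) x
  have hratr : ∀ k : ℕ, k.Coprime (Nat.card G) → ∀ x, (r : G → ℂ) (x ^ k) = (r : G → ℂ) x := by
    intro k hk x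
    obtain ⟨u1, u2, u4⟩ := htw r k hk
    generalize hg : (⟨_, isIrrCharacter_comp_pow hk r.2⟩ : IrrCharacter G) = r' at u1 u2 u4
    have e : r' = r := by
      rw [hr1] at u1; rw [hr2] at u2; rw [hr4] at u4
      rcases hcases r' ⟨4, u4 ▸ hω0⟩ with rfl | rfl | rfl | rfl | rfl | rfl | rfl | h
      · rw [hn1] at u4; simp at u4; omega
      · omega
      · omega
      · omega
      · omega
      · omega
      · omega
      · exact h
    subst e
    exact congrFun (congrArg Subtype.val hg) x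
  have hneg : ∀ χ : IrrCharacter G, χ ∈ principalBlock M G → ∀ x : Cen t, π x = -1 →
      (χ : G → ℂ) (x : G) = (χ : G → ℂ) t := fun χ hχ x hx =>
    (hXt χ hχ x hx).trans (hXt χ hχ (tc t) h'.pi_tc).symm
  rcases dioph ca cd E1 E2 with ⟨h1, h2⟩ | ⟨h1, h2⟩ | ⟨h1, h2⟩
  · rw [h1, h2] at K1'
    have hG : (Nat.card G : ℚ) = ((5616 * m * I₅ ^ 2 : ℕ) : ℚ) := by
      rw [hμdef] at K1'; push_cast; norm_num at K1' ⊢; linarith
    have hα1 : α = 1 ∧ D A = 12 := by
      have := hD0 A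
      rw [haE] at h1
      rcases hα with e | e <;> rw [e] at h1 ⊢ <;> omega
    refine ⟨A, hratA, hneg A hAB', Or.inl ⟨by exact_mod_cast hG, ?_, ?_, D0 A, hD0' A, ?_⟩⟩
    · rw [hD, hα1.2]; norm_num
    · rw [show (A : G → ℂ) t = tv (n A) from hXt A hAB' (tc t) h'.pi_tc]
      simp only [tv, hA0, hA1, hA2, hA3, hA4, hα1.1]; norm_num
    · have e := h80 A
      simp only [tv, wv, hA0, hA1, hA2, hA3, hA4, hα1.1] at e
      omega
  · rw [h1, h2] at K1'
    have hG : (Nat.card G : ℚ) = ((7920 * m * I₅ ^ 2 : ℕ) : ℚ) := by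
      rw [hμdef] at K1'; push_cast; norm_num at K1' ⊢; linarith
    have hω1 : ω = 1 ∧ D r = 10 := by
      have := hD0 p
      rw [hxE, h2] at hx
      rw [hDr]
      rcases hω with e | e <;> rw [e] at hx ⊢ <;> omega
    refine ⟨r, hratr, hneg r hrB', Or.inr ⟨by exact_mod_cast hG, ?_, ?_⟩⟩
    · rw [hD, hω1.2]; norm_num
    · rw [show (r : G → ℂ) t = tv (n r) from hXt r hrB' (tc t) h'.pi_tc]
      simp only [tv, hr0, hr1, hr2, hr3, hr4, hω1.1]; norm_num
  · exact absurd (by rw [he, h1, h2]; norm_num : e' = 1) he1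

end Hyp

end Cfsg.Lib.Small.GL23Core
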