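import Cfsg.Agent.Lib.Small.CentralizerGL23
import Cfsg.Agent.Lib.Block.CosetAverage

/-!
# An involution centralizer that is `GL(2, 3)` over a core of odd order

The classes of the centralizer with a power at the involution, the averages of characters over the
cosets of the core, and their orthogonality.
-/

set_option autoImplicit false
set_option linter.style.haveILetI false
set_option linter.unusedSectionVars false
set_option linter.unusedDecidableInType false
set_option maxRecDepth 4000

namespace Cfsg.Lib.Small.GL23Core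

open Subgroup Cfsg Cfsg.Lib.Char Cfsg.Lib.Small.CentralizerGL23
open scoped ComplexConjugate commutatorElement

universe u

noncomputable local instance (priority := high) fintypeSubgroupGL23Setup {A : Type u}
    [Group A] [Fintype A] (H : Subgroup A) : Fintype H := Fintype.ofFinite H

/-- A power is the central involution. -/
def Exc (g : GL23) : Prop := ∃ m : Fin 5, g ^ (m : ℕ) = -1

instance : DecidablePred Exc := fun g => inferInstanceAs (Decidable (∃ _m : Fin 5, _))

theorem exc_dk : ∀ i, Exc (repU (dk i)) := by decide +kernel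

theorem exc_neg_one : Exc (-1) := ⟨1, by simp⟩

theorem exc_ne_one : ∀ g, Exc g → g ≠ 1 := by decide +kernel

set_option synthInstance.maxHeartbeats 400000 in
set_option synthInstance.maxSize 2048 in
theorem exc_sqrt : ∀ g x : GL23, Exc g → g ≠ -1 → x * x = 1 → x * g = g * x → x = 1 ∨ x = -1 := by
  decide +kernel

theorem neg_one_ne_one : (-1 : GL23) ≠ 1 := by decide +kernel

variable {G : Type u} [Group G] [Fintype G] {t : G}

/-- The centralizer. -/
abbrev Cen (t : G) := ↥(centralizer ({t} : Set G))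

/-- The involution in its centralizer. -/
def tc (t : G) : Cen t := ⟨t, mem_centralizer_singleton_iff.mpr rfl⟩

@[simp] theorem coe_tc : ((tc t : Cen t) : G) = t := rfl

theorem tc_comm (x : Cen t) : x * tc t = tc t * x :=
  Subtype.ext (mem_centralizer_singleton_iff.mp x.2)

/-- The hypotheses. -/
structure Hyp (t : G) (π : Cen t →* GL23) : Prop where
  ht : orderOf t = 2
  surj : Function.Surjective π
  odd : Odd (Nat.card π.ker)

variable {π : Cen t →* GL23}

namespace Hyp

variable (h : Hyp t π)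
include h

theorem tne : t ≠ 1 := fun e => by have := h.ht; rw [e, orderOf_one] at this; omega

theorem tc_sq : tc t * tc t = 1 :=
  Subtype.ext (show t * t = 1 by rw [← sq, ← h.ht, pow_orderOf_eq_one])

theorem tc_inv : (tc t)⁻¹ = tc t := inv_eq_of_mul_eq_one_right h.tc_sq

theorem eq_one_of_two_pow {k : Cen t} (hk : π k = 1) {j : ℕ} (hj : k ^ 2 ^ j = 1) : k = 1 := by
  rw [← orderOf_eq_one_iff]
  refine Nat.eq_one_of_dvd_coprimes (Nat.Coprime.pow_left j (Nat.coprime_two_left.mpr h.odd))
    (orderOf_dvd_of_pow_eq_one hj) ?_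
  exact π.ker.orderOf_dvd_natCard (π.mem_ker.mpr hk)

theorem pi_tc : π (tc t) = -1 := by
  refine eq_neg_one_of_centralizes_quat (fun a _ => ?_) fun e => ?_
  · obtain ⟨x, rfl⟩ := h.surj a
    rw [← map_mul, ← map_mul, tc_comm]
  · exact h.tne (congrArg Subtype.val (h.eq_one_of_two_pow e (j := 1) (by rw [pow_one, sq, h.tc_sq])))

theorem eq_tc_of_two_pow {x : Cen t} (hx : π x = -1) {j : ℕ} (hj : x ^ 2 ^ (j + 1) = 1) : x = tc t := by
  have h1 : x * tc t = 1 := h.eq_one_of_two_pow (by rw [map_mul, hx, h.pi_tc, neg_mul_neg, mul_one])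
    (j := j + 1) (by
      rw [(show Commute x (tc t) from tc_comm x).mul_pow, hj, pow_succ', pow_mul, sq (tc t), h.tc_sq,
        one_pow, mul_one])
  rw [← h.tc_inv]
  exact eq_inv_of_mul_eq_one_left h1

theorem eq_one_or_tc {x : Cen t} (hx : π x = 1 ∨ π x = -1) {j : ℕ} (hj : x ^ 2 ^ (j + 1) = 1) :
    x = 1 ∨ x = tc t :=
  hx.imp (fun e => h.eq_one_of_two_pow e hj) fun e => h.eq_tc_of_two_pow e hj

theorem pow_ker {x : Cen t} (hx : π x = -1) : x ^ Nat.card π.ker = tc t := by
  have hk : π (x * tc t) = 1 := by rw [map_mul, hx, h.pi_tc, neg_mul_neg, mul_one]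
  have h1 : (x * tc t) ^ Nat.card π.ker = 1 :=
    orderOf_dvd_iff_pow_eq_one.mp (π.ker.orderOf_dvd_natCard (π.mem_ker.mpr hk))
  obtain ⟨c, hc⟩ := h.odd
  rw [(show Commute x (tc t) from tc_comm x).mul_pow, hc, pow_succ (tc t), pow_mul, sq (tc t), h.tc_sq,
    one_pow, one_mul, ← hc] at h1
  rw [← h.tc_inv]
  exact eq_inv_of_mul_eq_one_left h1

/-- Conjugation between exceptional elements fixes the involution. -/
theorem commute_of_conj {x y : Cen t} (hx : Exc (π x)) (hy : Exc (π y)) {c : G}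
    (hc : c * (x : G) * c⁻¹ = y) : c ∈ centralizer ({t} : Set G) := by
  obtain ⟨a, ha⟩ := hx
  set M := (a : ℕ) * Nat.card π.ker with hM
  have hxM : x ^ M = tc t := by rw [hM, pow_mul]; exact h.pow_ker (by rw [map_pow, ha])
  have hyM : ((y ^ M : Cen t) : G) = c * t * c⁻¹ := by
    rw [SubmonoidClass.coe_pow, ← hc, conj_pow, ← SubmonoidClass.coe_pow, hxM, coe_tc]
  have hsq : y ^ M * y ^ M = 1 := Subtype.ext (by
    rw [coe_mul, hyM, show c * t * c⁻¹ * (c * t * c⁻¹) = c * (t * t) * c⁻¹ by group,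
      show t * t = 1 from congrArg Subtype.val h.tc_sq, mul_one, mul_inv_cancel, coe_one])
  have hcases : π (y ^ M) = 1 ∨ π (y ^ M) = -1 := by
    by_cases h1 : π y = -1
    · rw [map_pow, h1]; exact neg_one_pow_eq_or _ M
    · exact exc_sqrt (π y) _ hy h1 (by rw [← map_mul, hsq, map_one])
        (by rw [← map_mul, ← map_mul, ← pow_succ, ← pow_succ'])
  rcases h.eq_one_or_tc hcases (j := 0) (by simpa [sq] using hsq) with e | e
  · rw [e, coe_one] at hyM
    exact absurd (conj_eq_one_iff.mp hyM.symm) h.tne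
  · rw [e, coe_tc] at hyM
    exact mem_centralizer_singleton_iff.mpr (mul_inv_eq_iff_eq_mul.mp hyM.symm)

theorem centralizer_le {x : Cen t} (hx : Exc (π x)) :
    centralizer ({(x : G)} : Set G) ≤ centralizer ({t} : Set G) := fun c hc =>
  h.commute_of_conj hx hx (by rw [mem_centralizer_singleton_iff.mp hc, mul_inv_cancel_right])

theorem isConj_pi {x y : Cen t} (hx : Exc (π x)) (hy : Exc (π y)) (hc : IsConj (x : G) y) :
    IsConj (π x) (π y) := by
  obtain ⟨c, hc⟩ := isConj_iff.mp hc
  refine isConj_iff.mpr ⟨π ⟨c, h.commute_of_conj hx hy hc⟩, ?_⟩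
  rw [← map_inv, ← map_mul, ← map_mul]
  exact congrArg π (Subtype.ext hc)

theorem not_isConj_one {x : Cen t} (hx : Exc (π x)) : ¬ IsConj (x : G) 1 := fun e => by
  rw [isConj_comm, isConj_one_right] at e
  exact exc_ne_one _ hx (by rw [show x = 1 from Subtype.ext e, map_one])

theorem card_cen : Nat.card (Cen t) = 48 * Nat.card π.ker := by
  rw [← card_mul_index π.ker, index_ker, MonoidHom.range_eq_top.mpr h.surj, card_top,
    Nat.card_eq_fintype_card (α := GL23), card_gl, mul_comm]

end Hyp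

open Classical in
/-- The fibre over an element. -/
noncomputable def fib (π : Cen t →* GL23) (g : GL23) : Finset (Cen t) :=
  Finset.univ.filter fun x => π x = g

theorem mem_fib {g : GL23} {x : Cen t} : x ∈ fib π g ↔ π x = g := by simp [fib]

open Classical in
theorem sum_fib {R : Type*} [AddCommMonoid R] (f : Cen t → R) (x : Cen t) :
    ∑ y ∈ fib π (π x), f y = ∑ n : π.ker, f ((n : Cen t) * x) := by
  symm
  refine Finset.sum_bij' (fun n _ => (n : Cen t) * x)
    (fun y hy => ⟨y * x⁻¹, by rw [π.mem_ker, map_mul, mem_fib.mp hy, map_inv, mul_inv_cancel]⟩)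
    (fun n _ => mem_fib.mpr (by rw [map_mul, π.mem_ker.mp n.2, one_mul]))
    (fun _ _ => Finset.mem_univ _) (fun n _ => ?_) (fun y _ => ?_) (fun n _ => rfl)
  · exact Subtype.ext (mul_inv_cancel_right _ _)
  · exact inv_mul_cancel_right _ _

theorem card_fib (hs : Function.Surjective π) (g : GL23) : (fib π g).card = Nat.card π.ker := by
  obtain ⟨x, rfl⟩ := hs g
  rw [Finset.card_eq_sum_ones, sum_fib (fun _ => 1) x, Finset.sum_const, smul_eq_mul, mul_one,
    Finset.card_univ, Nat.card_eq_fintype_card]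

/-- The average of a function over the fibre. -/
noncomputable def av (π : Cen t →* GL23) (χ : G → ℂ) (g : GL23) : ℂ :=
  (Nat.card π.ker : ℂ)⁻¹ * ∑ x ∈ fib π g, χ (x : G)

theorem ker_cast_ne_zero : (Nat.card π.ker : ℂ) ≠ 0 := Nat.cast_ne_zero.mpr Nat.card_pos.ne'

theorem av_of_const (hs : Function.Surjective π) {χ : G → ℂ} {g : GL23} {c : ℂ}
    (hc : ∀ x ∈ fib π g, χ (x : G) = c) : av π χ g = c := by
  rw [av, Finset.sum_congr rfl hc, Finset.sum_const, card_fib hs, nsmul_eq_mul, ← mul_assoc,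
    inv_mul_cancel₀ ker_cast_ne_zero, one_mul]

open Classical in
theorem av_isCharacter (hs : Function.Surjective π) {χ : G → ℂ} (hχ : IsCharacter G χ) :
    IsCharacter GL23 (av π χ) := by
  obtain ⟨ψ, hψ, he⟩ := Block.exists_coset_average (hχ.comp (centralizer ({t} : Set G)).subtype) π.ker
  let e := QuotientGroup.quotientKerEquivOfSurjective π hs
  have key : av π χ = fun g => ψ (e.symm.toMonoidHom g) := by
    funext g
    obtain ⟨x, rfl⟩ := hs g
    show _ = ψ (e.symm (π x))
    rw [show π x = e (x : Cen t ⧸ π.ker) from rfl, e.symm_apply_apply]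
    show (Nat.card π.ker : ℂ)⁻¹ * ∑ y ∈ fib π (π x), χ (y : G) = _
    rw [sum_fib (fun y : Cen t => χ (y : G)), inv_mul_eq_iff_eq_mul₀ ker_cast_ne_zero, he]
    rfl
  rw [key]
  exact hψ.comp e.symm.toMonoidHom

namespace Hyp

variable (h : Hyp t π)
include h

open Classical in
theorem sum_av_mul_conj (g k : GL23) :
    ∑ χ : IrrCharacter G, av π (χ : G → ℂ) g * conj (av π (χ : G → ℂ) k) =
      (Nat.card π.ker : ℂ)⁻¹ * (Nat.card π.ker : ℂ)⁻¹ * ∑ x ∈ fib π g, ∑ y ∈ fib π k,
        if IsConj (x : G) y then (Nat.card (centralizer ({(x : G)} : Set G)) : ℂ) else 0 := by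
  simp only [av, map_mul, map_inv₀, map_natCast, map_sum]
  calc ∑ χ : IrrCharacter G, (Nat.card π.ker : ℂ)⁻¹ * (∑ x ∈ fib π g, (χ : G → ℂ) x) *
        ((Nat.card π.ker : ℂ)⁻¹ * ∑ y ∈ fib π k, conj ((χ : G → ℂ) y))
      = (Nat.card π.ker : ℂ)⁻¹ * (Nat.card π.ker : ℂ)⁻¹ * ∑ x ∈ fib π g, ∑ y ∈ fib π k,
          ∑ χ : IrrCharacter G, (χ : G → ℂ) x * conj ((χ : G → ℂ) y) := by
        simp only [Finset.mul_sum, Finset.sum_mul]
        conv_rhs => enter [2, x]; rw [Finset.sum_comm]
        rw [Finset.sum_comm (s := fib π g)]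
        refine Finset.sum_congr rfl fun χ _ => ?_
        rw [Finset.sum_comm]
        exact Finset.sum_congr rfl fun x _ => Finset.sum_congr rfl fun y _ => by ring
    _ = _ := by simp only [column_orthogonality]

theorem sum_av_ne {g k : GL23} (hg : Exc g) (hk : Exc k) (hne : ¬ IsConj g k) :
    ∑ χ : IrrCharacter G, av π (χ : G → ℂ) g * conj (av π (χ : G → ℂ) k) = 0 := by
  classical
  rw [h.sum_av_mul_conj, Finset.sum_eq_zero, mul_zero]
  intro x hx
  refine Finset.sum_eq_zero fun y hy => if_neg fun e => hne ?_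
  rw [mem_fib] at hx hy
  rw [← hx, ← hy]
  exact h.isConj_pi (hx ▸ hg) (hy ▸ hk) e

theorem sum_av_self {g : GL23} (hg : Exc g) :
    ∑ χ : IrrCharacter G, av π (χ : G → ℂ) g * conj (av π (χ : G → ℂ) g) =
      ((Finset.univ.filter fun z : GL23 => z * g = g * z).card : ℂ) := by
  classical
  rw [h.sum_av_mul_conj]
  set T : Finset (Cen t) := Finset.univ.filter fun c => π c * g = g * π c with hT
  have hTc : T.card = (Finset.univ.filter fun z : GL23 => z * g = g * z).card * Nat.card π.ker := by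
    rw [Finset.card_eq_sum_card_fiberwise (f := π) (t := Finset.univ.filter fun z => z * g = g * z)
      (fun c hc => by simpa [hT] using hc), Finset.sum_congr rfl fun z hz => ?_, Finset.sum_const, smul_eq_mul]
    rw [← card_fib h.surj z]
    congr 1
    ext c
    simp only [hT, Finset.mem_filter, Finset.mem_univ, true_and, mem_fib, and_iff_right_iff_imp]
    exact fun e => e ▸ (Finset.mem_filter.mp hz).2
  have hin : ∀ x ∈ fib π g, (∑ y ∈ fib π g,
      if IsConj (x : G) y then (Nat.card (centralizer ({(x : G)} : Set G)) : ℂ) else 0) = (T.card : ℂ) := by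
    intro x hx
    rw [mem_fib] at hx
    rw [Finset.card_eq_sum_card_fiberwise (f := fun c => c * x * c⁻¹) (t := fib π g) (fun c hc => by
      simp only [hT, Finset.coe_filter, Finset.mem_univ, true_and, Set.mem_ofPred_eq] at hc
      simp only [Finset.mem_coe, mem_fib, map_mul, map_inv, hx, hc, mul_inv_cancel_right]), Nat.cast_sum]
    refine Finset.sum_congr rfl fun y hy => ?_
    rw [mem_fib] at hy
    have hset : (T.filter fun c => c * x * c⁻¹ = y) = Finset.univ.filter fun c => c * x * c⁻¹ = y := by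
      ext c
      simp only [hT, Finset.mem_filter, Finset.mem_univ, true_and, and_iff_right_iff_imp]
      intro e
      rw [← hx, ← mul_inv_eq_iff_eq_mul, ← map_inv, ← map_mul, ← map_mul, e, hy, hx]
    rw [hset]
    split_ifs with hc
    · obtain ⟨c, hc⟩ := isConj_iff.mp hc
      have hcC := h.commute_of_conj (hx ▸ hg) (hy ▸ hg) hc
      rw [Nat.cast_inj, ← Fintype.card_subtype, ← Nat.card_eq_fintype_card]
      refine Nat.card_congr
        { toFun := fun z => ⟨⟨c, hcC⟩ * ⟨z, h.centralizer_le (hx ▸ hg) z.2⟩, Subtype.ext (by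
            show c * (z : G) * x * (c * (z : G))⁻¹ = y
            rw [← hc, mul_assoc c (z : G), mem_centralizer_singleton_iff.mp z.2]
            group)⟩
          invFun := fun d => ⟨c⁻¹ * ((d.1 : Cen t) : G), mem_centralizer_singleton_iff.mpr (by
            have e : (d.1 : G) * x * (d.1 : G)⁻¹ = c * x * c⁻¹ := hc ▸ congrArg Subtype.val d.2
            rw [mul_inv_eq_iff_eq_mul] at e
            rw [mul_assoc, e]
            group)⟩
          left_inv := fun z => Subtype.ext (inv_mul_cancel_left _ _)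
          right_inv := fun d => Subtype.ext (Subtype.ext (mul_inv_cancel_left _ _)) }
    · rw [Finset.filter_eq_empty_iff.mpr (fun (d : Cen t) _ (e : d * x * d⁻¹ = y) =>
          hc (isConj_iff.mpr ⟨(d : G), congrArg Subtype.val e⟩)),
        Finset.card_empty, Nat.cast_zero]
  rw [Finset.sum_congr rfl hin, Finset.sum_const, card_fib h.surj, nsmul_eq_mul, hTc, Nat.cast_mul]
  have h0 := ker_cast_ne_zero (π := π)
  generalize (Nat.card π.ker : ℂ) = k at h0
  field_simp

theorem sum_av_one {g : GL23} (hg : Exc g) :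
    ∑ χ : IrrCharacter G, av π (χ : G → ℂ) g * conj ((χ : G → ℂ) 1) = 0 := by
  classical
  simp only [av, mul_assoc, ← Finset.mul_sum, Finset.sum_mul]
  rw [Finset.sum_comm, Finset.sum_eq_zero, mul_zero]
  intro x hx
  rw [column_orthogonality, if_neg (h.not_isConj_one ((mem_fib.mp hx).symm ▸ hg))]

/-- The centralizer is not abelian. -/
theorem not_comm : ∃ a b : G, a * b ≠ b * a := by
  obtain ⟨a, ha⟩ := h.surj (repU 4)
  obtain ⟨b, hb⟩ := h.surj (repU 6)
  refine ⟨a, b, fun e => ?_⟩
  have e' := congrArg π (Subtype.ext e : a * b = b * a)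
  rw [map_mul, map_mul, ha, hb] at e'
  revert e'
  decide +kernel

theorem perfect [IsSimpleGroup G] : commutator G = ⊤ := by
  refine (IsSimpleGroup.eq_bot_or_eq_top_of_normal (commutator G) inferInstance).resolve_left fun e => ?_
  obtain ⟨a, b, hab⟩ := h.not_comm
  apply hab
  have hm : ⁅a, b⁆ ∈ commutator G := by
    rw [commutator_eq_closure]; exact subset_closure ⟨a, b, rfl⟩
  rw [e, mem_bot, commutatorElement_eq_one_iff_commute] at hm
  exact hm

open Classical in
/-- All involutions are conjugate. -/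
theorem one_class [IsSimpleGroup G] {x : G} (hx : orderOf x = 2) : IsConj x t := by
  haveI : Fact (Nat.Prime 2) := ⟨Nat.prime_two⟩
  obtain ⟨P, hP⟩ := (IsPGroup.of_card (n := 1) (by
    rw [Nat.card_zpowers, orderOf_eq_prime (by rw [sq, h.tc_sq])
      (fun e => h.tne (congrArg Subtype.val e)), pow_one]) : IsPGroup 2 (zpowers (tc t))).exists_le_sylow
  have htP : tc t ∈ (P : Subgroup (Cen t)) := hP (mem_zpowers _)
  have hpow : ∀ z ∈ (P : Subgroup (Cen t)), ∃ j, z ^ 2 ^ (j + 1) = 1 := fun z hz => by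
    obtain ⟨j, hj⟩ := P.isPGroup' ⟨z, hz⟩
    exact ⟨j, by rw [pow_succ, pow_mul, show z ^ 2 ^ j = 1 from congrArg Subtype.val hj, one_pow]⟩
  have hinj : ∀ z ∈ (P : Subgroup (Cen t)), π z = 1 → z = 1 := fun z hz e => by
    obtain ⟨j, hj⟩ := hpow z hz
    exact h.eq_one_of_two_pow e hj
  have hPG : Nat.card (P : Subgroup (Cen t)) = 16 := by
    rw [P.card_eq_multiplicity, h.card_cen, Nat.factorization_mul (by norm_num) Nat.card_pos.ne']
    have e1 : (Nat.card π.ker).factorization 2 = 0 :=
      Nat.factorization_eq_zero_of_not_dvd fun d => Nat.not_even_iff_odd.mpr h.odd (even_iff_two_dvd.mpr d)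
    rw [Finsupp.add_apply, e1, add_zero, Nat.factorization_def _ Nat.prime_two,
      show (48 : ℕ) = 2 ^ 4 * 3 by norm_num, padicValNat.mul (by norm_num) (by norm_num),
      padicValNat.prime_pow, padicValNat.eq_zero_of_not_dvd (by norm_num)]
    norm_num
  let P' := P.mapSurjective h.surj
  have hQP : quat ≤ (P' : Subgroup GL23) := by
    obtain ⟨R, hR⟩ := (IsPGroup.of_card (n := 3) (by rw [card_quat]; rfl) : IsPGroup 2 quat).exists_le_sylow
    obtain ⟨g, hg⟩ := MulAction.exists_smul_eq GL23 R P'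
    intro a ha
    rw [← hg]
    exact ⟨_, hR (quat_normal.conj_mem a ha g⁻¹), show g * (g⁻¹ * a * g⁻¹⁻¹) * g⁻¹ = a by group⟩
  have hsurj' : ∀ a ∈ quat, ∃ z ∈ (P : Subgroup (Cen t)), π z = a := fun a ha => hQP ha
  obtain ⟨S, hS⟩ := (P.isPGroup'.map (centralizer ({t} : Set G)).subtype).exists_le_sylow
  have htS : t ∈ (S : Subgroup G) := hS ⟨tc t, htP, rfl⟩
  have hKS : (S : Subgroup G) = (P : Subgroup (Cen t)).map (centralizer ({t} : Set G)).subtype := by
    refine le_antisymm ?_ hS
    haveI : Nontrivial ↥(S : Subgroup G) := ⟨⟨t, htS⟩, 1, fun e => h.tne (congrArg Subtype.val e)⟩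
    haveI := S.isPGroup'.center_nontrivial
    obtain ⟨z, hz⟩ := exists_ne (1 : center ↥(S : Subgroup G))
    have hzc : ∀ w ∈ (S : Subgroup G), w * (z : G) = (z : G) * w := fun w hw =>
      congrArg Subtype.val (mem_center_iff.mp z.2 ⟨w, hw⟩)
    let zC : Cen t := ⟨(z : G), mem_centralizer_singleton_iff.mpr (hzc t htS).symm⟩
    have hz1 : π zC = 1 ∨ π zC = -1 := by
      refine (_root_.em (π zC = 1)).imp id fun hne => eq_neg_one_of_centralizes_quat (fun a ha => ?_) hne
      obtain ⟨w, hw, rfl⟩ := hsurj' a ha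
      rw [← map_mul, ← map_mul]
      exact congrArg π (Subtype.ext (hzc w (hS ⟨w, hw, rfl⟩)))
    obtain ⟨j, hj⟩ := S.isPGroup' (z : ↥(S : Subgroup G))
    have hzt : (z : G) = t := by
      rcases h.eq_one_or_tc hz1 (j := j) (Subtype.ext (by
        rw [SubmonoidClass.coe_pow, pow_succ, pow_mul]
        show (((z : ↥(S : Subgroup G)) : G) ^ 2 ^ j) ^ 2 = 1
        rw [← SubmonoidClass.coe_pow, hj, coe_one, one_pow])) with e | e
      · exact absurd (Subtype.ext (Subtype.ext (show ((z : ↥(S : Subgroup G)) : G) = 1 from congrArg Subtype.val e))) hz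
      · exact congrArg Subtype.val e
    have hSC : (S : Subgroup G) ≤ centralizer ({t} : Set G) := fun w hw =>
      mem_centralizer_singleton_iff.mpr (hzt ▸ hzc w hw)
    have hT : IsPGroup 2 ((S : Subgroup G).subgroupOf (centralizer ({t} : Set G))) :=
      S.isPGroup'.comap_subtype
    have hTP : (S : Subgroup G).subgroupOf (centralizer ({t} : Set G)) = P :=
      P.is_maximal' hT fun a ha => hS ⟨a, ha, rfl⟩
    intro w hw
    exact ⟨⟨w, hSC hw⟩, hTP ▸ (hw : (⟨w, hSC hw⟩ : Cen t) ∈ (S : Subgroup G).subgroupOf _), rfl⟩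
  obtain ⟨Q, hQ⟩ := (IsPGroup.of_card (n := 1) (by rw [Nat.card_zpowers, hx, pow_one]) :
    IsPGroup 2 (zpowers x)).exists_le_sylow
  obtain ⟨g, hg⟩ := MulAction.exists_smul_eq G Q S
  have hmem : g * x * g⁻¹ ∈ (S : Subgroup G) := by
    rw [← hg]
    exact smul_mem_pointwise_smul x (MulAut.conj g) _ (hQ (mem_zpowers x))
  refine (isConj_iff.mpr ⟨g, rfl⟩ : IsConj x (g * x * g⁻¹)).trans ?_
  have hy : orderOf (g * x * g⁻¹) = 2 := by rw [← MulAut.conj_apply, MulEquiv.orderOf_eq, hx]
  generalize g * x * g⁻¹ = y at hmem hy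
  set Q₀ : Subgroup (Cen t) := (P : Subgroup (Cen t)) ⊓ quat.comap π with hQ₀
  have hQ8 : Nat.card Q₀ = 8 := by
    rw [← card_quat]
    refine Nat.card_eq_of_bijective (fun z : Q₀ => (⟨π z.1, z.2.2⟩ : quat)) ⟨fun a b e => ?_, fun a => ?_⟩
    · refine Subtype.ext (inv_mul_eq_one.mp (hinj _ ((P : Subgroup (Cen t)).mul_mem (inv_mem a.2.1) b.2.1) ?_))
      rw [map_mul, map_inv, show π a.1 = π b.1 from congrArg Subtype.val e, inv_mul_cancel]
    · obtain ⟨z, hz, e⟩ := hsurj' a a.2
      exact ⟨⟨z, hz, show π z ∈ quat from e ▸ a.2⟩, Subtype.ext e⟩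
  set Q' := Q₀.map (centralizer ({t} : Set G)).subtype with hQ'
  have hQS : Q' ≤ (S : Subgroup G) := hKS ▸ map_mono inf_le_left
  have hidx : Q'.relIndex (S : Subgroup G) = 2 := by
    rw [hKS, hQ', relIndex_map_map_of_injective _ _ (Subgroup.subtype_injective _)]
    have e := card_mul_index (Q₀.subgroupOf (P : Subgroup (Cen t)))
    rw [Nat.card_congr (subgroupOfEquivOfLe (inf_le_left : Q₀ ≤ P)).toEquiv, hQ8, hPG] at e
    rw [relIndex]; omega
  have hin : ∀ z ∈ Q', orderOf z = 2 → z = t := by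
    rintro _ ⟨a, ⟨haP, haq⟩, rfl⟩ hz
    rw [orderOf_injective _ (Subgroup.subtype_injective _)] at hz
    have ha : a * a = 1 := by rw [← sq, ← hz, pow_orderOf_eq_one]
    have ha1 : π a ≠ 1 := fun e => by rw [hinj a haP e, orderOf_one] at hz; omega
    exact congrArg Subtype.val (h.eq_tc_of_two_pow (j := 0)
      (quat_invol _ haq (by rw [← map_mul, ha, map_one]) ha1) (by simpa [sq] using ha))
  have h2 : ∀ M : Subgroup G, M.Normal → M.index ≠ 2 := by
    intro M hM hi
    rcases IsSimpleGroup.eq_bot_or_eq_top_of_normal M hM with rfl | rfl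
    · rw [index_bot] at hi
      have e := card_subgroup_dvd_card (centralizer ({t} : Set G))
      rw [h.card_cen, hi] at e
      have := Nat.le_of_dvd (by norm_num) e
      have : 0 < Nat.card π.ker := Nat.card_pos
      omega
    · rw [index_top] at hi; omega
  by_cases hyQ : y ∈ Q'
  · rw [hin y hyQ hy]
  · rcases Cfsg.Agent.S0111.result S Q' hQS hidx y hy hmem hyQ with ⟨M, hM, hMi, -⟩ | ⟨k, hk⟩
    · exact absurd hMi (h2 M hM)
    · refine (isConj_iff.mpr ⟨k, rfl⟩ : IsConj y (k * y * k⁻¹)).trans ?_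
      rw [hin _ hk (by rw [← MulAut.conj_apply, MulEquiv.orderOf_eq, hy])]

end Hyp

end Cfsg.Lib.Small.GL23Core
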